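import Cfsg.Agent.H76.D4TwoCover
import Cfsg.Prelude.Def_Classical

/-!
S3144: the model of the double cover of the orthogonal group of plus type in dimension 8 over two
elements inside 8 × 8 matrices modulo 3 (the derived Weyl group of type E₈), and the list of the
finite facts about it which the fusion argument uses.
-/

set_option autoImplicit false

namespace H6.O8

open Subgroup

/-- The ambient matrix group. -/
abbrev GG := GL (Fin 8) (ZMod 3)

/-- A matrix given by rows, with a given inverse. -/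
def glOf (A B : List (List ℕ)) : GG :=
  if h : H76.Exc.rmul A B = H76.Exc.rsc 1 ∧ H76.Exc.rmul B A = H76.Exc.rsc 1 then
    ⟨H76.Exc.toM A, H76.Exc.toM B, by rw [← H76.Exc.toM_rmul, h.1, H76.Exc.toM_one],
      by rw [← H76.Exc.toM_rmul, h.2, H76.Exc.toM_one]⟩
  else 1

/-- A signed permutation matrix: row `i` has entry `s i` in column `p i`. -/
def mrows (p s : List ℕ) : List (List ℕ) :=
  List.ofFn fun i : Fin 8 => List.ofFn fun j : Fin 8 => if p.getD i.val 0 = j.val then s.getD i.val 0 else 0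

/-- The transpose. -/
def rtr (A : List (List ℕ)) : List (List ℕ) :=
  List.ofFn fun i : Fin 8 => List.ofFn fun j : Fin 8 => (A.getD j.val []).getD i.val 0

/-- A signed permutation as an invertible matrix. -/
def mono (p s : List ℕ) : GG := glOf (mrows p s) (rtr (mrows p s))

/-- Minus one. -/
def zM : GG := -1

/-- Two roots changed in sign: the involution of codimension two. -/
def rA : GG := mono [0, 1, 2, 3, 4, 5, 6, 7] [2, 2, 1, 1, 1, 1, 1, 1]

/-- The involution of dimension six. -/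
def rB : GG := zM * rA

/-- The element of order four with square minus one. -/
def rT : GG := mono [1, 0, 3, 2, 5, 4, 7, 6] [1, 2, 1, 2, 1, 2, 1, 2]

/-- The involution with negated subspace of type D₄. -/
def rD : GG := mono [0, 1, 2, 3, 4, 5, 6, 7] [2, 2, 2, 2, 1, 1, 1, 1]

/-- The frame of eight orthogonal reflections. -/
def fr : Fin 8 → GG
  | 0 => mono [1, 0, 2, 3, 4, 5, 6, 7] [1, 1, 1, 1, 1, 1, 1, 1]
  | 1 => mono [1, 0, 2, 3, 4, 5, 6, 7] [2, 2, 1, 1, 1, 1, 1, 1]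
  | 2 => mono [0, 1, 3, 2, 4, 5, 6, 7] [1, 1, 1, 1, 1, 1, 1, 1]
  | 3 => mono [0, 1, 3, 2, 4, 5, 6, 7] [1, 1, 2, 2, 1, 1, 1, 1]
  | 4 => mono [0, 1, 2, 3, 5, 4, 6, 7] [1, 1, 1, 1, 1, 1, 1, 1]
  | 5 => mono [0, 1, 2, 3, 5, 4, 6, 7] [1, 1, 1, 1, 2, 2, 1, 1]
  | 6 => mono [0, 1, 2, 3, 4, 5, 7, 6] [1, 1, 1, 1, 1, 1, 1, 1]
  | 7 => mono [0, 1, 2, 3, 4, 5, 7, 6] [1, 1, 1, 1, 1, 1, 2, 2]

/-- The reflection. -/
def rR : GG := fr 0

/-- The product of three orthogonal reflections. -/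
def rP : GG := fr 0 * fr 2 * fr 4

/-- The involution with negated subspace of type 4A₁. -/
def rF : GG := fr 0 * fr 2 * fr 4 * fr 7

/-- The double cover: generated by the lifts of the root elements. -/
def MM : Subgroup GG :=
  closure {g | ∃ r < 24, g = H76.Exc.rgl H76.Exc.d4LiftA r}

/-- With a reflection added: the Weyl group. -/
def WW : Subgroup GG := MM ⊔ zpowers rR

/-- Elements of two-power order. -/
def Two {H : Type*} [Monoid H] (x : H) : Prop := ∃ n : ℕ, x ^ (2 ^ n) = 1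

/-- Generated by the elements of odd order of the centralizer in the cover. -/
def Kc (a : GG) : Subgroup GG :=
  closure {x | x ∈ MM ∧ Commute a x ∧ Odd (orderOf x)}

/-- The same for two elements. -/
def Kp (a b : GG) : Subgroup GG :=
  closure {x | x ∈ MM ∧ Commute a x ∧ Commute b x ∧ Odd (orderOf x)}

/-- Generated by the two-elements of `Kc a`. -/
def Kt (a : GG) : Subgroup GG := closure {x | x ∈ Kc a ∧ Two x}

/-- Conjugate in the cover. -/
def MConj (a b : GG) : Prop := ∃ m ∈ MM, m * a * m⁻¹ = b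

/-- Classes of involutions and basic facts on the cover. -/
structure ClassFacts : Prop where
  z_mem : zM ∈ MM
  center : ∀ x ∈ MM, (∀ y ∈ MM, x * y = y * x) → x = 1 ∨ x = zM
  normal : ∀ w ∈ WW, ∀ x ∈ MM, w * x * w⁻¹ ∈ MM
  outer_not_mem : rR ∉ MM
  inner_two : ∀ a ∈ MM, a * a = 1 → a = 1 ∨ a = zM ∨
    MConj a rA ∨ MConj a rB ∨ MConj a rD ∨ MConj a rF
  inner_four : ∀ a ∈ MM, a * a = zM → ∃ w ∈ WW, w * a * w⁻¹ = rT
  outer : ∀ a ∈ WW, a ∉ MM → (a * a = 1 ∨ a * a = zM) →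
    MConj a rR ∨ MConj a (zM * rR) ∨ MConj a rP ∨ MConj a (zM * rP)

/-- Facts on the centralizers. -/
structure KFacts : Prop where
  A_z : zM ∉ Kc rA
  A_u : rA ∉ Kc rA
  A_zu : zM * rA ∈ Kc rA
  B_z : zM ∉ Kc rB
  B_u : rB ∈ Kc rB
  B_root : ∀ b ∈ Kc rB, (∀ x ∈ Kc rB, b * x = x * b) → b * b ≠ rB
  T_self : rT ∈ Kc rT
  T_sq : rT * rT = zM
  D_z : zM ∈ Kc rD
  D_u : rD ∈ Kc rD
  D_roots : Nat.card {x : GG // x ∈ Kc rD ∧ Two x ∧ x * x = zM} ≠
    Nat.card {x : GG // x ∈ Kc rD ∧ Two x ∧ x * x = rD}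
  F_z : zM ∈ Kc rF
  F_u : rF ∈ Kc rF
  FD_card : Nat.card {x : GG // x ∈ Kc rF ∧ Two x} < Nat.card {x : GG // x ∈ Kc rD ∧ Two x}
  R_z : zM ∉ Kc rR
  P_z : zM ∉ Kc rP
  F_closed : ∀ x ∈ Kc rF, ∀ y ∈ Kc rF, Two x → Two y → Two (x * y)
  P_closed : ∀ x ∈ Kc rP, ∀ y ∈ Kc rP, Two x → Two y → Two (x * y)
  F_coset : ∀ x ∈ Kc rF, MConj x rF → MConj (rF * x) rF → MConj (zM * x) rF
  F_wit : ∃ x ∈ Kc rF, MConj x rF ∧ MConj (zM * x) rF ∧ MConj (rF * x) rD
  P_wit : ∃ q ∈ Kc rP, Two q ∧ q ≠ 1 ∧ ∃ m ∈ MM, m * rP * m⁻¹ = rP * q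
  A_tri : ∃ v, MConj v rA ∧ MConj (rA * v) rA ∧ rA * v = v * rA ∧
    ∃ x ∈ Kp rA v, ∃ y ∈ Kp rA v, Two x ∧ Two y ∧ ¬ Two (x * y)
  R_pair : ∀ i : Fin 8, i ≠ 0 → MConj (fr i) rR ∧ zM * rR * fr i ∈ Kt rR ∧
    ∃ x ∈ Kp rR (fr i), ∃ y ∈ Kp rR (fr i), Two x ∧ Two y ∧ ¬ Two (x * y)

/-- Facts on frames of reflections. -/
structure FrameFacts : Prop where
  fr_conj : ∀ i, MConj (fr i) rR
  fr_comm : ∀ i j, fr i * fr j = fr j * fr i
  fr_ne : ∀ i j, i ≠ j → fr i ≠ fr j ∧ fr i ≠ zM * fr j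
  frame : ∀ y : Fin 8 → GG, (∀ i, MConj (y i) rR) → (∀ i j, y i * y j = y j * y i) →
    (∀ i j, i ≠ j → y i ≠ y j) → ∃ m ∈ MM, ∃ σ : Equiv.Perm (Fin 8), ∀ i, m * y i * m⁻¹ = fr (σ i)
  quad : ∃ Q : Finset (Finset (Fin 8)), Q.card = 14 ∧ (∀ T ∈ Q, T.card = 4) ∧
    ∀ a b c d : Fin 8, a ≠ b → a ≠ c → a ≠ d → b ≠ c → b ≠ d → c ≠ d →
      (({a, b, c, d} : Finset (Fin 8)) ∈ Q ↔
        ∃ y ∈ Kt (fr a), y * y = (zM * fr a * fr b) * (zM * fr a * fr c) * (zM * fr a * fr d))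

/-- Any double cover of the simple group is the model, and its automorphisms come from the Weyl
group. -/
structure IsoFacts : Prop where
  aut : ∀ α : MulAut ↥MM, ∃ w ∈ WW, ∀ x : ↥MM, ((α x : ↥MM) : GG) = w * (x : GG) * w⁻¹

universe u v

/-- Every perfect double cover of the simple group is isomorphic to the model. -/
def IsoStmt : Prop :=
  ∀ (L : Type u) [Group L] [Finite L] (F : Type v) [Field F] [Fintype F], Fintype.card F = 2 →
    Group.IsPerfect L → Nat.card (Subgroup.center L) = 2 →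
      Nonempty (L ⧸ Subgroup.center L ≃* Cfsg.POmega F (Cfsg.quadFormPlus 4 F)) → Nonempty (L ≃* MM)

end H6.O8
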