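import Cfsg.Agent.H6.O8Cover.Last
import Cfsg.Agent.H20.O8Cover.Iso
import Cfsg.Agent.H20.O8Cover.Quad

/-!
S3144 from the class and centralizer facts.
-/

set_option autoImplicit false

namespace H6.O8

open Subgroup

theorem rR_mul_self : rR * rR = 1 := by decide +kernel

theorem normal_of_facts (hc : ClassFacts) (hk : KFacts) {G : Type*} [Group G] [Finite G]
    (hO : Cfsg.oddCore G = ⊥) (L : Subgroup G) (hL : Cfsg.IsStandardSubgroup L)
    {F : Type*} [Field F] [Fintype F] (hF : Fintype.card F = 2)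
    (hZ : Nat.card ↥(Subgroup.center ↥L) = 2)
    (hLX : Nonempty ((↥L ⧸ Subgroup.center ↥L) ≃* Cfsg.POmega F (Cfsg.quadFormPlus 4 F)))
    (hR : ∀ R : Sylow 2 ↥(Subgroup.centralizer (L : Set G)),
      IsCyclic ↥(R : Subgroup ↥(Subgroup.centralizer (L : Set G)))) : L.Normal := by
  obtain ⟨e⟩ := isoStmt (↥L) F hF hL.1.1 hZ hLX
  let c : Ctx G := ⟨L, hL, hR, e, hc, isoFacts⟩
  exact c.normal_of_isolated ⟨hc, hk, frameFacts, frTrans, rR_mul_self⟩ hO

end H6.O8
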