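import Cfsg.Agent.H6.O8Cover.Points

/-!
S3144: no reflection type: the frame would give a design on nine points with 14·9/5 blocks.
-/

set_option autoImplicit false

namespace H6.O8

open Subgroup

namespace Ctx

variable {G : Type*} [Group G] [Finite G] (c : Ctx G)

/-- The product of three triples. -/
def qq (p a b d e : G) : G := (p * a * b) * (p * a * d) * (p * a * e)

/-- The predicate on five points. -/
def Pred (p a b d e : G) : Prop := ∃ y ∈ K2g p a, y * y = qq p a b d e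

theorem qq_conj (g p a b d e : G) : g * qq p a b d e * g⁻¹ =
    qq (g * p * g⁻¹) (g * a * g⁻¹) (g * b * g⁻¹) (g * d * g⁻¹) (g * e * g⁻¹) := by
  unfold qq; group

theorem pred_conj {g p a b d e : G} (h : Pred p a b d e) :
    Pred (g * p * g⁻¹) (g * a * g⁻¹) (g * b * g⁻¹) (g * d * g⁻¹) (g * e * g⁻¹) := by
  obtain ⟨y, hy, hyy⟩ := h
  exact ⟨_, K2g_conj g hy, by rw [← qq_conj, ← hyy]; group⟩

theorem pred_conj_iff (g p a b d e : G) : Pred (g * p * g⁻¹) (g * a * g⁻¹) (g * b * g⁻¹)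
    (g * d * g⁻¹) (g * e * g⁻¹) ↔ Pred p a b d e := by
  refine ⟨fun h => ?_, pred_conj⟩
  have := pred_conj (g := g⁻¹) h
  simpa [mul_assoc] using this

theorem pred_swap {p a b d e : G} (hpa : Commute p a) (h : Pred p a b d e) : Pred a p b d e := by
  obtain ⟨y, hy, hyy⟩ := h
  refine ⟨y, by rwa [K2g_symm], hyy.trans ?_⟩
  unfold qq
  rw [hpa.eq]

theorem quad_iff (M : Model) {v : Fin 8 → G} (hv : c.Good v) {Q : Finset (Finset (Fin 8))}
    (hQ : ∀ a b d e : Fin 8, a ≠ b → a ≠ d → a ≠ e → b ≠ d → b ≠ e → d ≠ e →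
      (({a, b, d, e} : Finset (Fin 8)) ∈ Q ↔
        ∃ y ∈ Kt (fr a), y * y = (zM * fr a * fr b) * (zM * fr a * fr d) * (zM * fr a * fr e)))
    (a b d e : Fin 8) (h1 : a ≠ b) (h2 : a ≠ d) (h3 : a ≠ e) (h4 : b ≠ d) (h5 : b ≠ e) (h6 : d ≠ e) :
    Pred c.z (v a) (v b) (v d) (v e) ↔ ({a, b, d, e} : Finset (Fin 8)) ∈ Q := by
  rw [hQ a b d e h1 h2 h3 h4 h5 h6]
  obtain ⟨hb, eb⟩ := hv.prod a b
  obtain ⟨hd, ed⟩ := hv.prod a d
  obtain ⟨he, ee⟩ := hv.prod a e
  set Z : ↥c.L := ⟨c.z, c.z_mem⟩ with hZ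
  set X : ↥c.L := (Z * ⟨_, hb⟩) * (Z * ⟨_, hd⟩) * (Z * ⟨_, he⟩) with hX
  have hXv : (X : G) = qq c.z (v a) (v b) (v d) (v e) := by
    simp [hX, hZ, qq, mul_assoc]
  have hXe : ((c.e X : ↥MM) : GG) =
      (zM * fr a * fr b) * (zM * fr a * fr d) * (zM * fr a * fr e) := by
    simp only [hX, hZ, map_mul, Subgroup.coe_mul, c.e_z, eb, ed, ee]
    group
  constructor
  · rintro ⟨y, hy, hyy⟩
    obtain ⟨hyL, hk⟩ := c.K2g_mem M (hv.comm a) (hv.act a) hy
    refine ⟨_, hk, ?_⟩
    rw [← hXe, ← Subgroup.coe_mul, ← map_mul]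
    congr 2
    exact Subtype.ext (hyy.trans hXv.symm)
  · rintro ⟨y, hy, hyy⟩
    refine ⟨_, c.mem_K2g M (hv.comm a) (hv.act a) hy, ?_⟩
    rw [← hXv, ← Subgroup.coe_mul]
    refine congrArg Subtype.val (c.e.injective (Subtype.ext ?_))
    simp [hXe, hyy]

theorem zM_not_Kc (M : Model) {u : G} (hu : c.IsX u) (hs : c.IsO u rR) (a : Fin 8) :
    zM ∉ Kc (fr a) := by
  intro h
  have hz := (c.z_mem_Kg_iff M (c.ys_isX M hu hs a).1 (c.ys_act M hu hs a)).2 h
  obtain ⟨n, hn⟩ := c.ys_conj_u M hu hs a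
  have hnz : (n : G)⁻¹ * c.z * (n : G) = c.z := by
    rw [mul_assoc, (c.L_comm n.2).eq, inv_mul_cancel_left]
  have := Kg_conj (n : G)⁻¹ hz
  rw [inv_inv, hnz, hn, show (n : G)⁻¹ * ((n : G) * u * (n : G)⁻¹) * n = u by group] at this
  exact M.k.R_z ((c.z_mem_Kg_iff M hu.1 hs.2).1 this)

theorem zfr_mem_Kt (M : Model) {a b : Fin 8} (hab : a ≠ b) : zM * fr a * fr b ∈ Kt (fr a) := by
  obtain ⟨m, hm, σ, hσ, h⟩ := M.trans a
  have hj : σ.symm b ≠ 0 := fun e => hab (by rw [← hσ, ← e, Equiv.apply_symm_apply])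
  obtain ⟨-, hq, -⟩ := M.k.R_pair _ hj
  have h1 : zM * fr a * fr b = m * (zM * rR * fr (σ.symm b)) * m⁻¹ := by
    rw [show m * (zM * rR * fr (σ.symm b)) * m⁻¹ = (m * (zM * rR) * m⁻¹) * (m * fr (σ.symm b) * m⁻¹) by
      group, conj_zM, show rR = fr 0 from rfl, h, h, hσ, Equiv.apply_symm_apply]
  have hm' : fr a = m * rR * m⁻¹ := by rw [show rR = fr 0 from rfl, h, hσ]
  have hK : (Kc rR).map (MulAut.conj m).toMonoidHom ≤ Kc (fr a) := by
    rw [Kc, MonoidHom.map_closure, closure_le]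
    rintro _ ⟨y, ⟨hy1, hy2, hy3⟩, rfl⟩
    refine subset_closure ⟨mul_mem (mul_mem hm hy1) (inv_mem hm), ?_, ?_⟩
    · rw [hm']; exact commute_conj m hy2
    · simpa [orderOf_conj] using hy3
  have hT : (Kt rR).map (MulAut.conj m).toMonoidHom ≤ Kt (fr a) := by
    rw [Kt, MonoidHom.map_closure, closure_le]
    rintro _ ⟨y, ⟨hy1, hy2⟩, rfl⟩
    exact subset_closure ⟨hK ⟨y, hy1, rfl⟩, hy2.conj m⟩
  rw [h1]
  exact hT ⟨_, hq, rfl⟩

/-- The tuple seen from `u`, normalised to the frame. -/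
theorem view (M : Model) {u : G} (hu : c.IsX u) (hs : c.IsO u rR) :
    ∃ (h : G) (σ : Equiv.Perm (Fin 8)), h * u * h⁻¹ = c.z ∧
      c.Good (fun i => if σ.symm i = 0 then h * c.z * h⁻¹ else h * c.ys M u (σ.symm i) * h⁻¹) := by
  obtain ⟨g, hg⟩ := hu.2.2
  set v : Fin 8 → G := fun i => if i = 0 then g⁻¹ * c.z * g else g⁻¹ * c.ys M u i * g with hvdef
  have hv0 : v 0 = g⁻¹ * c.z * g := if_pos rfl
  have hvi : ∀ i, i ≠ 0 → v i = g⁻¹ * c.ys M u i * g := fun i hi => if_neg hi
  have hR : ∀ i, c.RTyp (v i) := by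
    intro i
    by_cases hi : i = 0
    · rw [hi, hv0]; exact (c.pair_R M hu hs hg 1 (by decide)).2.1
    · rw [hvi i hi]; exact (c.pair_R M hu hs hg i hi).2.2.1
  have hX : ∀ i, c.IsX (v i) := by
    intro i
    by_cases hi : i = 0
    · rw [hi, hv0]
      refine ⟨?_, fun e => hu.2.1 ?_, g⁻¹, by simp⟩
      · have := commute_conj g⁻¹ hu.1.symm
        rw [← hg] at this
        simpa [mul_assoc] using this
      · rw [← hg]
        calc g * c.z * g⁻¹ = g * (g⁻¹ * c.z * g) * g⁻¹ := by rw [e]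
          _ = c.z := by group
    · rw [hvi i hi]; exact (c.pair_R M hu hs hg i hi).1
  choose A hAc hA using fun i => (hR i).2
  -- products with the member `0`
  have hL0 : ∀ i, v 0 * v i ∈ c.L := by
    intro i
    by_cases hi : i = 0
    · rw [hi, (hX 0).sq]; exact one_mem _
    · have h := (c.pair_R M hu hs hg i hi).2.2.2
      rw [← hv0, ← hvi i hi] at h
      obtain ⟨hL, -⟩ := c.K2g_mem M (hX 0).1 (hA 0) h
      have : v 0 * v i = c.z * (v 0 * c.z * v i) := by
        rw [← mul_assoc, ← mul_assoc, (hX 0).1.eq, mul_assoc (v 0), c.z_sq, mul_one]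
      rw [this]; exact mul_mem c.z_mem hL
  have hLij : ∀ i j, v i * v j ∈ c.L := by
    intro i j
    have := mul_mem (inv_mem (hL0 i)) (hL0 j)
    rwa [mul_inv_rev, inv_eq_of_mul_eq_one_right (hX 0).sq, inv_eq_of_mul_eq_one_right (hX i).sq,
      mul_assoc, ← mul_assoc (v 0) (v 0), (hX 0).sq, one_mul] at this
  have hvcomm : ∀ i j, Commute (v i) (v j) := by
    intro i j
    have hyz : ∀ k, Commute c.z (c.ys M u k) := fun k => (c.ys_isX M hu hs k).1
    have hyy : ∀ k l, Commute (c.ys M u k) (c.ys M u l) := fun k l => by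
      show _ * _ = _ * _
      rw [c.ys_mul M hu hs, c.ys_mul M hu hs]
      simp only [M.f.fr_comm k l]
    by_cases hi : i = 0 <;> by_cases hj : j = 0
    · subst hi; subst hj; exact Commute.refl _
    · rw [hi, hv0, hvi j hj]; simpa [mul_assoc] using commute_conj g⁻¹ (hyz j)
    · rw [hj, hv0, hvi i hi]; simpa [mul_assoc] using commute_conj g⁻¹ (hyz i).symm
    · rw [hvi i hi, hvi j hj]; simpa [mul_assoc] using commute_conj g⁻¹ (hyy i j)
  -- the images of products
  have hprod : ∀ i j, ((c.e ⟨_, hLij i j⟩ : ↥MM) : GG) = A i * A j ∨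
      ((c.e ⟨_, hLij i j⟩ : ↥MM) : GG) = zM * (A i * A j) := by
    intro i j
    set w : GG := ((c.e ⟨_, hLij i j⟩ : ↥MM) : GG) with hw
    have hwM : w ∈ MM := (c.e _).2
    have hAM : A i * A j ∈ MM := by
      obtain ⟨m, hm, e1⟩ := hAc i
      obtain ⟨n, hn, e2⟩ := hAc j
      have : A i * A j = m⁻¹ * (rR * (m * n⁻¹) * rR⁻¹) * n := by
        rw [show A i = m⁻¹ * rR * m by rw [← e1]; group, show A j = n⁻¹ * rR * n by rw [← e2]; group,
          M.rR_inv]
        group
      rw [this]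
      exact mul_mem (mul_mem (inv_mem hm) (M.cls.normal rR M.rR_mem _ (mul_mem hm (inv_mem hn)))) hn
    have hc : ∀ x ∈ MM, (A i * A j)⁻¹ * w * x = x * ((A i * A j)⁻¹ * w) := by
      intro x hx
      have e1 := c.act_self c.e (hLij i j) (c.e.symm ⟨x, hx⟩)
        (c.conj_mem (c.L_comm (hLij i j)) (SetLike.coe_mem _))
      have h1 := c.conj_mem (hX j).1 (c.e.symm ⟨x, hx⟩).2
      have h2 := c.conj_mem (hX i).1 h1
      have e2 := hA j (c.e.symm ⟨x, hx⟩) h1
      have e3 := hA i ⟨_, h1⟩ h2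
      rw [e2] at e3
      simp only [MulEquiv.apply_symm_apply] at e1 e3
      have heq : A i * (A j * x * (A j)⁻¹) * (A i)⁻¹ = w * x * w⁻¹ := by
        rw [← e3, ← e1]
        congr 2
        exact Subtype.ext (by group)
      calc (A i * A j)⁻¹ * w * x = (A i * A j)⁻¹ * (w * x * w⁻¹) * w := by group
        _ = x * ((A i * A j)⁻¹ * w) := by rw [← heq]; group
    rcases M.cls.center _ (mul_mem (inv_mem hAM) hwM) hc with e | e
    · exact .inl (inv_mul_eq_one.1 e).symm
    · exact .inr (by rw [zM_comm]; exact inv_mul_eq_iff_eq_mul.1 e)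
  have hsq : ∀ i, A i * A i = 1 := fun i => by
    obtain ⟨m, -, e⟩ := hAc i
    rw [show A i = m⁻¹ * rR * m by rw [← e]; group,
      show m⁻¹ * rR * m * (m⁻¹ * rR * m) = m⁻¹ * (rR * rR) * m by group, M.rR_sq]; group
  have hcomm : ∀ i j, A i * A j = A j * A i := by
    intro i j
    have h2 : (⟨_, hLij i j⟩ : ↥c.L) * ⟨_, hLij i j⟩ = 1 := Subtype.ext (by
      show v i * v j * (v i * v j) = 1
      rw [(hvcomm j i).mul_mul_mul_comm, (hX i).sq, (hX j).sq, one_mul])
    have h3 := congrArg (fun t => ((c.e t : ↥MM) : GG)) h2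
    simp only [map_mul, map_one, Subgroup.coe_mul, OneMemClass.coe_one] at h3
    have h4 : A i * A j * (A i * A j) = 1 := by
      rcases hprod i j with e | e <;> rw [e] at h3
      · exact h3
      · rwa [show zM * (A i * A j) * (zM * (A i * A j)) = A i * A j * (A i * A j) by simp [zM]] at h3
    calc A i * A j = (A i * A j)⁻¹ := (inv_eq_of_mul_eq_one_right h4).symm
      _ = A j * A i := by
        rw [mul_inv_rev, inv_eq_of_mul_eq_one_right (hsq i), inv_eq_of_mul_eq_one_right (hsq j)]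
  have hne : ∀ i j, i ≠ j → A i ≠ A j := by
    intro i j hij e
    have h1 : v i * v j = 1 ∨ v i * v j = c.z := by
      rcases hprod i j with h | h <;> rw [e, hsq] at h
      · exact .inl (congrArg Subtype.val
          (show (⟨_, hLij i j⟩ : ↥c.L) = 1 from c.e.injective (Subtype.ext (by simpa using h))))
      · exact .inr (congrArg Subtype.val
          (show (⟨_, hLij i j⟩ : ↥c.L) = ⟨c.z, c.z_mem⟩ from
            c.e.injective (Subtype.ext (by rw [c.e_z]; simpa using h))))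
    have hyne : ∀ k l, k ≠ l → c.ys M u k * c.ys M u l ≠ 1 ∧
        c.ys M u k * c.ys M u l ≠ u := by
      intro k l hkl
      rw [c.ys_mul M hu hs]
      refine ⟨fun h => (M.f.fr_ne k l hkl).1 ?_, fun h => hs.1 (h ▸ SetLike.coe_mem _)⟩
      have := congrArg (fun t => ((c.e t : ↥MM) : GG))
        (show c.e.symm ⟨fr k * fr l, M.fr_mul_mem k l⟩ = 1 from Subtype.ext h)
      simp only [MulEquiv.apply_symm_apply, map_one, OneMemClass.coe_one] at this
      rw [eq_inv_of_mul_eq_one_left this, inv_eq_of_mul_eq_one_right (M.fr_sq l)]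
    have hzy : ∀ k, k ≠ 0 → c.z * c.ys M u k ≠ 1 ∧ c.z * c.ys M u k ≠ u := by
      intro k hk
      have hnm : c.z * c.ys M u k ∉ c.L := fun h =>
        c.ys_not_mem M hs k ((Subgroup.mul_mem_cancel_left c.L c.z_mem).1 h)
      refine ⟨fun h => hnm (h ▸ one_mem _), fun h => ?_⟩
      have h' := c.ys_mul M hu hs k 0
      rw [c.ys_zero] at h'
      have h2 : c.ys M u k * u = c.z := by
        calc c.ys M u k * u = c.ys M u k * (c.z * c.ys M u k) := by rw [h]
          _ = c.z := by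
            rw [← mul_assoc, ← (c.ys_isX M hu hs k).1.eq, mul_assoc, (c.ys_isX M hu hs k).sq, mul_one]
      rw [h2] at h'
      have := congrArg (fun t => ((c.e t : ↥MM) : GG))
        (show (⟨c.z, c.z_mem⟩ : ↥c.L) = c.e.symm ⟨fr k * fr 0, M.fr_mul_mem k 0⟩ from Subtype.ext h')
      simp only [MulEquiv.apply_symm_apply, c.e_z] at this
      exact (M.f.fr_ne k 0 hk).2 (by
        rw [this, mul_assoc, M.fr_sq, mul_one])
    have hback : ∀ {p q : G}, (g⁻¹ * p * g * (g⁻¹ * q * g) = 1 ∨ g⁻¹ * p * g * (g⁻¹ * q * g) = c.z) →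
        p * q = 1 ∨ p * q = u := by
      intro p q h
      rw [show g⁻¹ * p * g * (g⁻¹ * q * g) = g⁻¹ * (p * q) * g by group] at h
      rcases h with h | h
      · left
        rw [show p * q = g * (g⁻¹ * (p * q) * g) * g⁻¹ by group, h]; group
      · right
        rw [show p * q = g * (g⁻¹ * (p * q) * g) * g⁻¹ by group, h, hg]
    by_cases hi : i = 0 <;> by_cases hj : j = 0
    · exact hij (hi.trans hj.symm)
    · rw [hi, hv0, hvi j hj] at h1
      rcases hback h1 with h | h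
      · exact (hzy j hj).1 h
      · exact (hzy j hj).2 h
    · rw [hj, hv0, hvi i hi] at h1
      rcases hback h1 with h | h <;> rw [← (c.ys_isX M hu hs i).1.eq] at h
      · exact (hzy i hi).1 h
      · exact (hzy i hi).2 h
    · rw [hvi i hi, hvi j hj] at h1
      rcases hback h1 with h | h
      · exact (hyne i j hij).1 h
      · exact (hyne i j hij).2 h
  obtain ⟨m, hm, σ, hσ⟩ := M.f.frame A hAc hcomm hne
  set n := c.e.symm ⟨m, hm⟩ with hn
  refine ⟨(n : G) * g⁻¹, σ, ?_, ?_⟩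
  · rw [← hg]
    have : (n : G) * c.z = c.z * n := (c.L_comm n.2).eq.symm
    calc (n : G) * g⁻¹ * (g * c.z * g⁻¹) * ((n : G) * g⁻¹)⁻¹ = (n : G) * c.z * (n : G)⁻¹ := by group
      _ = c.z := by rw [this]; group
  set w : Fin 8 → G := fun i => (n : G) * v (σ.symm i) * (n : G)⁻¹ with hwdef
  have hwv : (fun i => if σ.symm i = 0 then (n : G) * g⁻¹ * c.z * ((n : G) * g⁻¹)⁻¹
      else (n : G) * g⁻¹ * c.ys M u (σ.symm i) * ((n : G) * g⁻¹)⁻¹) = w := by
    funext i
    simp only [hwdef, hvdef]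
    split_ifs <;> group
  rw [hwv]
  have hwc : ∀ i, Commute c.z (w i) := fun i => c.comm_conj (hX _).1 n
  have hwA : ∀ i, c.Act c.e (w i) (fr i) := by
    intro i
    have := c.act_conj (hX (σ.symm i)).1 (hA (σ.symm i)) n
    simpa [hn, hσ] using this
  have hen : ((c.e n : ↥MM) : GG) = m := by simp [hn]
  have hww : ∀ i j, ∃ h : w i * w j ∈ c.L,
      ((c.e ⟨_, h⟩ : ↥MM) : GG) = fr i * fr j ∨ ((c.e ⟨_, h⟩ : ↥MM) : GG) = zM * (fr i * fr j) := by
    intro i j
    have e : w i * w j = ((n * ⟨_, hLij (σ.symm i) (σ.symm j)⟩ * n⁻¹ : ↥c.L) : G) := by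
      simp [hwdef, mul_assoc]
    refine ⟨e ▸ SetLike.coe_mem _, ?_⟩
    have hfe : fr i * fr j = m * (A (σ.symm i) * A (σ.symm j)) * m⁻¹ := by
      conv_lhs => rw [← σ.apply_symm_apply i, ← σ.apply_symm_apply j, ← hσ, ← hσ]
      group
    have : ∀ hh, (⟨w i * w j, hh⟩ : ↥c.L) = n * ⟨_, hLij (σ.symm i) (σ.symm j)⟩ * n⁻¹ :=
      fun _ => Subtype.ext e
    rw [this]
    simp only [map_mul, map_inv, Subgroup.coe_mul, InvMemClass.coe_inv, hen]
    rcases hprod (σ.symm i) (σ.symm j) with h | h <;> rw [h]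
    · exact .inl hfe.symm
    · exact .inr (by rw [hfe, conj_zM])
  set s := σ 0 with hs0
  have hexact : ∀ j, ∃ h : w s * w j ∈ c.L, ((c.e ⟨_, h⟩ : ↥MM) : GG) = fr s * fr j := by
    intro j
    obtain ⟨h, e | e⟩ := hww s j
    · exact ⟨h, e⟩
    refine ⟨h, ?_⟩
    by_cases hj : j = s
    · subst hj
      have hone : w s * w s = 1 := by
        simp only [hwdef]
        rw [show (n : G) * v (σ.symm s) * (n : G)⁻¹ * ((n : G) * v (σ.symm s) * (n : G)⁻¹) =
          (n : G) * (v (σ.symm s) * v (σ.symm s)) * (n : G)⁻¹ by group, (hX _).sq]; group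
      rw [M.fr_sq, show (⟨w s * w s, h⟩ : ↥c.L) = 1 from Subtype.ext hone]
      simp
    exfalso
    have hj0 : σ.symm j ≠ 0 := fun e' => hj (by rw [hs0, ← e', Equiv.apply_symm_apply])
    have hmem := (c.pair_R M hu hs hg _ hj0).2.2.2
    rw [← hv0, ← hvi _ hj0] at hmem
    have hmem' := K2g_conj (n : G) hmem
    have hnz : (n : G) * c.z * (n : G)⁻¹ = c.z := by rw [← (c.L_comm n.2).eq, mul_inv_cancel_right]
    have hs' : σ.symm s = 0 := by rw [hs0, Equiv.symm_apply_apply]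
    rw [hnz, show (n : G) * v 0 * (n : G)⁻¹ = w s by simp only [hwdef, hs'],
      show (n : G) * (v 0 * c.z * v (σ.symm j)) * (n : G)⁻¹ =
        ((n : G) * v 0 * (n : G)⁻¹) * ((n : G) * c.z * (n : G)⁻¹) * w j by simp only [hwdef]; group,
      hnz, show (n : G) * v 0 * (n : G)⁻¹ = w s by simp only [hwdef, hs']] at hmem'
    obtain ⟨hL, hk⟩ := c.K2g_mem M (hwc s) (hwA s) hmem'
    have hxe : ((c.e ⟨_, hL⟩ : ↥MM) : GG) = fr s * fr j := by
      have : (⟨w s * c.z * w j, hL⟩ : ↥c.L) = ⟨c.z, c.z_mem⟩ * ⟨_, h⟩ := Subtype.ext (by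
        show w s * c.z * w j = c.z * (w s * w j)
        rw [(hwc s).symm.eq, mul_assoc])
      rw [this, map_mul, Subgroup.coe_mul, c.e_z, e, ← mul_assoc, zM_sq, one_mul]
    rw [hxe] at hk
    have h2 := mul_mem (zfr_mem_Kt M (a := s) (b := j) (Ne.symm hj)) (inv_mem hk)
    rw [show zM * fr s * fr j * (fr s * fr j)⁻¹ = zM by group] at h2
    exact c.zM_not_Kc M hu hs s (Kt_le_Kc _ h2)
  refine ⟨hwc, hwA, fun i j => ?_⟩
  obtain ⟨hsi, ei⟩ := hexact i
  obtain ⟨hsj, ej⟩ := hexact j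
  have hinv : ∀ k, (w k)⁻¹ = w k := fun k => by
    refine inv_eq_of_mul_eq_one_right ?_
    simp only [hwdef]
    rw [show (n : G) * v (σ.symm k) * (n : G)⁻¹ * ((n : G) * v (σ.symm k) * (n : G)⁻¹) =
      (n : G) * (v (σ.symm k) * v (σ.symm k)) * (n : G)⁻¹ by group, (hX _).sq]; group
  have hprodw : w i * w j = (((⟨_, hsi⟩ : ↥c.L)⁻¹ * ⟨_, hsj⟩ : ↥c.L) : G) := by
    simp only [Subgroup.coe_mul, InvMemClass.coe_inv, mul_inv_rev]
    rw [show (w i)⁻¹ * (w s)⁻¹ * (w s * w j) = (w i)⁻¹ * w j by group, hinv]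
  refine ⟨hprodw ▸ SetLike.coe_mem _, ?_⟩
  rw [show (⟨w i * w j, hprodw ▸ SetLike.coe_mem _⟩ : ↥c.L) = (⟨_, hsi⟩ : ↥c.L)⁻¹ * ⟨_, hsj⟩ from
    Subtype.ext hprodw]
  simp only [map_mul, map_inv, Subgroup.coe_mul, InvMemClass.coe_inv, ei, ej]
  rw [mul_inv_rev, mul_assoc, inv_mul_cancel_left, inv_eq_of_mul_eq_one_right (M.fr_sq i)]

/-- The points. -/
def pt (M : Model) (u : G) : Option (Fin 8) → G
  | none => c.z
  | some i => c.ys M u i

/-- Reflection types do not occur. -/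
theorem no_R (M : Model) {u : G} (hu : c.IsX u) (hs : c.IsO u rR) : False := by
  obtain ⟨Q, hQc, hQ4, hQ⟩ := M.f.quad
  obtain ⟨h, σ, hh, hgood⟩ := c.view M hu hs
  let f0 : Fin 8 → Option (Fin 8) := fun i => if σ.symm i = 0 then none else some (σ.symm i)
  have hview : ∀ m : Option (Fin 8), ∃ f : Fin 8 ↪ Option (Fin 8), (∀ i, f i ≠ m) ∧
      ∀ a b d e : Fin 8, a ≠ b → a ≠ d → a ≠ e → b ≠ d → b ≠ e → d ≠ e →
        (Pred (c.pt M u m) (c.pt M u (f a)) (c.pt M u (f b)) (c.pt M u (f d)) (c.pt M u (f e)) ↔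
          ({a, b, d, e} : Finset (Fin 8)) ∈ Q) := by
    rintro (_ | k)
    · exact ⟨Function.Embedding.some, fun i => Option.some_ne_none i,
        c.quad_iff M (c.ys_good M hu hs) hQ⟩
    · obtain ⟨m, hm, τ, hτ0, hτ⟩ := M.trans k
      set n := c.e.symm ⟨m, hm⟩ with hn
      refine ⟨⟨fun i => (f0 i).map τ, ?_⟩, ?_, ?_⟩
      · intro i j hij
        simp only [f0] at hij
        have := Option.map_injective τ.injective hij
        split_ifs at this with h1 h2 h2
        · exact σ.symm.injective (h1.trans h2.symm)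
        · exact σ.symm.injective (Option.some.inj this)
      · intro i hik
        change (f0 i).map τ = some k at hik
        by_cases h1 : σ.symm i = 0
        · simp [f0, h1] at hik
        · simp only [f0, h1, if_false, Option.map_some, Option.some.injEq] at hik
          exact h1 (τ.injective (hik.trans hτ0.symm))
      · intro a b d e h1 h2 h3 h4 h5 h6
        have hpt : ∀ o, (n : G) * c.pt M u o * (n : G)⁻¹ = c.pt M u (o.map τ) := by
          rintro (_ | i)
          · show (n : G) * c.z * (n : G)⁻¹ = c.z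
            rw [← (c.L_comm n.2).eq, mul_inv_cancel_right]
          · exact c.ys_perm M hu hs hm hτ i
        have hk : c.pt M u (some k) = (n : G) * u * (n : G)⁻¹ := by
          have := c.ys_perm M hu hs hm hτ 0
          rw [hτ0, c.ys_zero] at this
          exact this.symm
        show Pred (c.pt M u (some k)) (c.pt M u ((f0 a).map τ)) (c.pt M u ((f0 b).map τ))
          (c.pt M u ((f0 d).map τ)) (c.pt M u ((f0 e).map τ)) ↔ _
        rw [hk, ← hpt, ← hpt, ← hpt, ← hpt]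
        rw [pred_conj_iff, ← pred_conj_iff h, hh]
        have hw : ∀ i, h * c.pt M u (f0 i) * h⁻¹ =
            (if σ.symm i = 0 then h * c.z * h⁻¹ else h * c.ys M u (σ.symm i) * h⁻¹) := by
          intro i
          simp only [f0]
          split_ifs <;> rfl
        rw [hw, hw, hw, hw]
        exact c.quad_iff M hgood hQ a b d e h1 h2 h3 h4 h5 h6
  choose f hfm hf using hview
  let QQ : Option (Fin 8) → Finset (Finset (Option (Fin 8))) := fun m => Q.image (Finset.map (f m))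
  have hQQc : ∀ m, (QQ m).card = 14 := fun m => by
    rw [Finset.card_image_of_injective _ (Finset.map_injective _), hQc]
  have hQQ4 : ∀ m, ∀ T ∈ QQ m, T.card = 4 ∧ m ∉ T := by
    intro m T hT
    obtain ⟨S, hS, rfl⟩ := Finset.mem_image.1 hT
    refine ⟨by rw [Finset.card_map, hQ4 S hS], fun hm => ?_⟩
    obtain ⟨i, -, hi⟩ := Finset.mem_map.1 hm
    exact hfm m i hi
  have hsurj : ∀ m o, o ≠ m → ∃ i, f m i = o := by
    intro m o ho
    have hsub : Finset.univ.map (f m) = Finset.univ.erase m := by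
      refine Finset.eq_of_subset_of_card_le ?_ (by simp)
      intro x hx
      obtain ⟨i, -, rfl⟩ := Finset.mem_map.1 hx
      exact Finset.mem_erase.2 ⟨hfm m i, Finset.mem_univ _⟩
    have : o ∈ Finset.univ.map (f m) := by rw [hsub]; simp [ho]
    obtain ⟨i, -, hi⟩ := Finset.mem_map.1 this
    exact ⟨i, hi⟩
  have key : ∀ m a b d e, [m, a, b, d, e].Nodup → (({a, b, d, e} : Finset (Option (Fin 8))) ∈ QQ m ↔
      Pred (c.pt M u m) (c.pt M u a) (c.pt M u b) (c.pt M u d) (c.pt M u e)) := by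
    intro m a b d e hnd
    simp only [List.nodup_cons, List.mem_cons, List.not_mem_nil, or_false, not_or] at hnd
    obtain ⟨⟨hma, hmb, hmd, hme⟩, ⟨hab, had, hae⟩, ⟨hbd, hbe⟩, hde, -⟩ := hnd
    obtain ⟨a', rfl⟩ := hsurj m a (Ne.symm hma)
    obtain ⟨b', rfl⟩ := hsurj m b (Ne.symm hmb)
    obtain ⟨d', rfl⟩ := hsurj m d (Ne.symm hmd)
    obtain ⟨e', rfl⟩ := hsurj m e (Ne.symm hme)
    rw [hf m a' b' d' e' (fun h => hab (h ▸ rfl)) (fun h => had (h ▸ rfl)) (fun h => hae (h ▸ rfl))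
      (fun h => hbd (h ▸ rfl)) (fun h => hbe (h ▸ rfl)) (fun h => hde (h ▸ rfl))]
    rw [show ({f m a', f m b', f m d', f m e'} : Finset (Option (Fin 8))) =
      ({a', b', d', e'} : Finset (Fin 8)).map (f m) by simp, Finset.mem_image]
    exact ⟨fun ⟨S, hS, hSe⟩ => Finset.map_injective _ hSe ▸ hS, fun h => ⟨_, h, rfl⟩⟩
  have hcm : ∀ p q, Commute (c.pt M u p) (c.pt M u q) := by
    rintro (_ | i) (_ | j)
    · exact Commute.refl _
    · exact (c.ys_isX M hu hs j).1
    · exact (c.ys_isX M hu hs i).1.symm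
    · show _ * _ = _ * _
      simp only [pt]
      rw [c.ys_mul M hu hs, c.ys_mul M hu hs]
      simp only [M.f.fr_comm i j]
  have hsym : ∀ B : Finset (Option (Fin 8)), ∀ m ∈ B, ∀ a ∈ B,
      B.erase m ∈ QQ m → B.erase a ∈ QQ a := by
    intro B m hm a ha hmem
    by_cases hma : m = a
    · exact hma ▸ hmem
    have h4 := (hQQ4 m _ hmem).1
    have hae : a ∈ B.erase m := Finset.mem_erase.2 ⟨Ne.symm hma, ha⟩
    have h3 : ((B.erase m).erase a).card = 3 := by rw [Finset.card_erase_of_mem hae, h4]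
    obtain ⟨b, d, e, hbd, hbe, hde, hbde⟩ := Finset.card_eq_three.1 h3
    have hin : ∀ x, x = b ∨ x = d ∨ x = e → x ≠ m ∧ x ≠ a := by
      intro x hx
      have : x ∈ (B.erase m).erase a := by rw [hbde]; simpa using hx
      simp only [Finset.mem_erase] at this
      exact ⟨this.2.1, this.1⟩
    obtain ⟨hbm, hba⟩ := hin b (.inl rfl)
    obtain ⟨hdm, hda⟩ := hin d (.inr (.inl rfl))
    obtain ⟨hem, hea⟩ := hin e (.inr (.inr rfl))
    have e1 : B.erase m = {a, b, d, e} := by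
      rw [← Finset.insert_erase hae, hbde]
    have e2 : B.erase a = {m, b, d, e} := by
      rw [← Finset.insert_erase (Finset.mem_erase.2 ⟨hma, hm⟩ : m ∈ B.erase a),
        Finset.erase_right_comm, hbde]
    rw [e1, key m a b d e (by simp [hma, Ne.symm hbm, Ne.symm hdm, Ne.symm hem, Ne.symm hba,
      Ne.symm hda, Ne.symm hea, hbd, hbe, hde])] at hmem
    rw [e2, key a m b d e (by simp [Ne.symm hma, Ne.symm hbm, Ne.symm hdm, Ne.symm hem,
      Ne.symm hba, Ne.symm hda, Ne.symm hea, hbd, hbe, hde])]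
    exact pred_swap (hcm m a) hmem
  let BB : Finset (Finset (Option (Fin 8))) :=
    Finset.univ.filter fun B => ∃ m ∈ B, B.erase m ∈ QQ m
  have hB5 : ∀ B ∈ BB, B.card = 5 := by
    intro B hB
    obtain ⟨-, m, hm, hmem⟩ := Finset.mem_filter.1 hB
    have := (hQQ4 m _ hmem).1
    rw [Finset.card_erase_of_mem hm] at this
    omega
  have hdeg : ∀ m, (BB.filter fun B => m ∈ B).card = 14 := by
    intro m
    rw [← hQQc m]
    refine Finset.card_bij' (fun B _ => B.erase m) (fun T _ => insert m T) ?_ ?_ ?_ ?_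
    · intro B hB
      obtain ⟨hB1, hmB⟩ := Finset.mem_filter.1 hB
      obtain ⟨-, m', hm', hmem⟩ := Finset.mem_filter.1 hB1
      exact hsym B m' hm' m hmB hmem
    · intro T hT
      have := (hQQ4 m T hT).2
      exact Finset.mem_filter.2 ⟨Finset.mem_filter.2 ⟨Finset.mem_univ _, m, Finset.mem_insert_self _ _,
        by rwa [Finset.erase_insert this]⟩, Finset.mem_insert_self _ _⟩
    · intro B hB
      exact Finset.insert_erase (Finset.mem_filter.1 hB).2
    · intro T hT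
      exact Finset.erase_insert (hQQ4 m T hT).2
  have hsum := Finset.sum_card_bipartiteAbove_eq_sum_card_bipartiteBelow
    (s := BB) (t := (Finset.univ : Finset (Option (Fin 8)))) (fun B m => m ∈ B)
  simp only [Finset.bipartiteAbove, Finset.bipartiteBelow] at hsum
  rw [Finset.sum_congr rfl (fun B hB => show (Finset.univ.filter fun m => m ∈ B).card = 5 by
      rw [Finset.filter_mem_eq_inter, Finset.univ_inter, hB5 B hB]),
    Finset.sum_congr rfl (fun m _ => hdeg m)] at hsum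
  simp only [Finset.sum_const, smul_eq_mul, Finset.card_univ, Fintype.card_option, Fintype.card_fin]
    at hsum
  omega

end Ctx

end H6.O8
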