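import Cfsg.Agent.H6.O8Cover.Types

/-!
S3144: the types D, T and B do not occur among the conjugates of `z`.
-/

set_option autoImplicit false

namespace H6.O8.Ctx

open Subgroup

variable {G : Type*} [Group G] [Finite G] (c : Ctx G)

theorem card_roots (M : Model) {u : G} {r : GG} (hu : c.IsX u) (h : c.Std u r) (w : ↥c.L) :
    Nat.card {x : G // x ∈ Kg c.z u ∧ Two x ∧ x * x = w} =
      Nat.card {k : GG // k ∈ Kc r ∧ Two k ∧ k * k = ((c.e w : ↥MM) : GG)} := by
  have hA := Std.act c h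
  refine Nat.card_congr (Equiv.ofBijective (fun x => ⟨((c.e ⟨x.1, c.mem_L_of_Kg M hu.1 x.2.1 x.2.2.1⟩ :
      ↥MM) : GG), (c.mem_Kg_iff M hu.1 hA ⟨x.1, _⟩ x.2.2.1).1 x.2.1,
      (c.two_coe c.e _).1 x.2.2.1, ?_⟩) ⟨fun x y hxy => ?_, fun k => ?_⟩)
  · rw [← Subgroup.coe_mul, ← map_mul]
    congr 2
    exact Subtype.ext x.2.2.2
  · have h' := congrArg Subtype.val hxy
    simp only [] at h'
    have := c.e.injective (Subtype.ext h')
    injection this with h3
    exact Subtype.ext h3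
  · set l := c.e.symm ⟨k.1, Kc_le_MM r k.2.1⟩ with hl
    have hel : ((c.e l : ↥MM) : GG) = k.1 := by simp [hl]
    have h2 : Two (l : G) := (c.two_coe c.e l).2 (by rw [hel]; exact k.2.2.1)
    refine ⟨⟨l, (c.mem_Kg_iff M hu.1 hA l h2).2 (by rw [hel]; exact k.2.1), h2, ?_⟩, Subtype.ext hel⟩
    refine congrArg Subtype.val (show l * l = w from c.e.injective (Subtype.ext ?_))
    simp [hel, k.2.2.2]

theorem card_two (M : Model) {u : G} {r : GG} (hu : c.IsX u) (h : c.Std u r) :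
    Nat.card {x : G // x ∈ Kg c.z u ∧ Two x} = Nat.card {k : GG // k ∈ Kc r ∧ Two k} := by
  have hA := Std.act c h
  refine Nat.card_congr (Equiv.ofBijective (fun x => ⟨((c.e ⟨x.1, c.mem_L_of_Kg M hu.1 x.2.1 x.2.2⟩ :
      ↥MM) : GG), (c.mem_Kg_iff M hu.1 hA ⟨x.1, _⟩ x.2.2).1 x.2.1,
      (c.two_coe c.e _).1 x.2.2⟩) ⟨fun x y hxy => ?_, fun k => ?_⟩)
  · have h' := congrArg Subtype.val hxy
    simp only [] at h'
    have := c.e.injective (Subtype.ext h')
    injection this with h3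
    exact Subtype.ext h3
  · set l := c.e.symm ⟨k.1, Kc_le_MM r k.2.1⟩ with hl
    have hel : ((c.e l : ↥MM) : GG) = k.1 := by simp [hl]
    have h2 : Two (l : G) := (c.two_coe c.e l).2 (by rw [hel]; exact k.2.2)
    exact ⟨⟨l, (c.mem_Kg_iff M hu.1 hA l h2).2 (by rw [hel]; exact k.2.1), h2⟩, Subtype.ext hel⟩

/-- The type D does not occur. -/
theorem no_D (M : Model) {u : G} (hu : c.IsX u) (hs : c.Std u rD) : False := by
  obtain ⟨g, v, h1, h2, hv, ht⟩ := c.exists_partner M hu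
  have hzu : c.z ∈ Kg c.z u := (c.z_mem_Kg_iff M hu.1 (Std.act c hs)).2 M.k.D_z
  have huu : u ∈ Kg c.z u := (c.self_mem_Kg_iff M hu hs).2 M.k.D_u
  have hvv : v ∈ Kg c.z v := by
    have := c.Kg_back h1 h2 hzu
    rwa [h2] at this
  have hzv : c.z ∈ Kg c.z v := by
    have := c.Kg_back h1 h2 huu
    rwa [← h1, show g⁻¹ * (g * c.z * g⁻¹) * g = c.z by group] at this
  have hvL : v ∈ c.L := c.mem_L_of_Kg M hv.1 hvv (two_of_sq hv.sq)
  rcases ht with h | h | h | h | h | h | h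
  · exact M.k.A_u ((c.self_mem_Kg_iff M hv h).1 hvv)
  · exact M.k.B_z ((c.z_mem_Kg_iff M hv.1 (Std.act c h)).1 hzv)
  · obtain ⟨huL, heu⟩ := id hs
    have e1 := c.card_roots M hv h ⟨c.z, c.z_mem⟩
    have e2 := c.card_roots M hu hs ⟨u, huL⟩
    rw [c.E_z] at e1
    rw [heu] at e2
    refine M.k.D_roots (e1.symm.trans (Eq.trans ?_ e2))
    refine Nat.card_congr ((MulAut.conj g).toEquiv.subtypeEquiv fun x => ?_)
    constructor
    · rintro ⟨hx, hx2, hxx⟩
      refine ⟨c.Kg_forward h1 h2 hx, hx2.conj g, ?_⟩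
      show g * x * g⁻¹ * (g * x * g⁻¹) = u
      rw [← h1, ← show x * x = c.z from hxx]; group
    · rintro ⟨hx, hx2, hxx⟩
      change g * x * g⁻¹ ∈ _ at hx
      change Two (g * x * g⁻¹) at hx2
      refine ⟨by simpa [mul_assoc] using c.Kg_back h1 h2 hx, by simpa [mul_assoc] using hx2.conj g⁻¹, ?_⟩
      show x * x = c.z
      have : g * x * g⁻¹ * (g * x * g⁻¹) = u := hxx
      rw [← h1] at this
      have h' : g * (x * x) * g⁻¹ = g * c.z * g⁻¹ := by rw [← this]; group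
      simpa using h'
  · have e : Nat.card {x : G // x ∈ Kg c.z v ∧ Two x} = Nat.card {x : G // x ∈ Kg c.z u ∧ Two x} := by
      refine Nat.card_congr ((MulAut.conj g).toEquiv.subtypeEquiv fun x => ?_)
      constructor
      · rintro ⟨hx, hx2⟩
        exact ⟨c.Kg_forward h1 h2 hx, hx2.conj g⟩
      · rintro ⟨hx, hx2⟩
        change g * x * g⁻¹ ∈ _ at hx
        change Two (g * x * g⁻¹) at hx2
        exact ⟨by simpa [mul_assoc] using c.Kg_back h1 h2 hx,
          by simpa [mul_assoc] using hx2.conj g⁻¹⟩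
    rw [c.card_two M hv h, c.card_two M hu hs] at e
    exact absurd e M.k.FD_card.ne
  · exact h.1 hvL
  · exact h.1 hvL
  · exact h.1 hvL

/-- The mixed type does not occur. -/
theorem no_T (M : Model) {u : G} (hu : c.IsX u) (hs : c.IsT u) : False := by
  obtain ⟨huL, E, l, k, hk, hul, hEl, hll, hA⟩ := hs
  obtain ⟨g, v, h1, h2, hv, ht⟩ := c.exists_partner M hu
  have hl2 : Two (l : G) := ⟨2, by
    rw [show (2 : ℕ) ^ 2 = 2 * 2 from rfl, pow_mul, sq (l : G), hll, sq, c.z_sq]⟩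
  have hlK : (l : G) ∈ Kg c.z u := (c.mem_Kg_iff M hu.1 hA l hl2).2 (hEl ▸ M.k.T_self)
  have hlc : ∀ x ∈ Kg c.z u, Commute (l : G) x := by
    intro x hx
    induction hx using closure_induction with
    | mem d hd =>
      obtain ⟨l', k', hk', rfl, -, -, hal, -⟩ := c.odd_part E M.rR_sq hu.1 hA hd.1 hd.2.1 hd.2.2
      refine Commute.mul_right ?_ (mem_centralizer_iff.1 hk' _ l.2)
      refine congrArg Subtype.val (show l * l' = l' * l from E.injective (Subtype.ext ?_))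
      simp only [map_mul, Subgroup.coe_mul, hEl]
      exact hal.eq
    | one => exact Commute.one_right _
    | mul a b _ _ ha hb => exact ha.mul_right hb
    | inv a _ ha => exact ha.inv_right
  set b := g⁻¹ * (l : G) * g with hb
  have hbK : b ∈ Kg c.z v := c.Kg_back h1 h2 hlK
  have hb2 : Two b := by simpa using hl2.conj g⁻¹
  have hbb : b * b = v := by rw [hb, ← h2, ← hll]; group
  have hbL : b ∈ c.L := c.mem_L_of_Kg M hv.1 hbK hb2
  have hvL : v ∈ c.L := hbb ▸ mul_mem hbL hbL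
  have hvv : v ∈ Kg c.z v := by
    have := mul_mem hbK hbK
    rwa [hbb] at this
  rcases ht with h | h | h | h | h | h | h
  · exact M.k.A_u ((c.self_mem_Kg_iff M hv h).1 hvv)
  · have hA' := Std.act c h
    obtain ⟨hvL', hev⟩ := id h
    refine M.k.B_root _ ((c.mem_Kg_iff M hv.1 hA' ⟨b, hbL⟩ hb2).1 hbK) ?_ ?_
    · intro x hx
      set y := c.e.symm ⟨x, Kc_le_MM _ hx⟩ with hy
      have hey : ((c.e y : ↥MM) : GG) = x := by simp [hy]
      have hyK : (y : G) ∈ Kg c.z v := c.symm_mem_Kg c.e hv.1 hA' hx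
      have h' := commute_conj g⁻¹ (hlc _ (c.Kg_forward h1 h2 hyK))
      have h'' : Commute b (y : G) := by simpa [hb, mul_assoc] using h'
      have := congrArg (fun t => ((c.e t : ↥MM) : GG))
        (show (⟨b, hbL⟩ : ↥c.L) * y = y * ⟨b, hbL⟩ from Subtype.ext h''.eq)
      simpa [hey] using this
    · rw [← hev, ← Subgroup.coe_mul, ← map_mul]
      congr 2
      exact Subtype.ext hbb
  · exact c.no_D M hv h
  · refine huL (c.mem_L_of_Kg M hu.1 ?_ (two_of_sq hu.sq))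
    have hzv : c.z ∈ Kg c.z v := (c.z_mem_Kg_iff M hv.1 (Std.act c h)).2 M.k.F_z
    have := c.Kg_forward h1 h2 hzv
    rwa [h1] at this
  · exact h.1 hvL
  · exact h.1 hvL
  · exact h.1 hvL

/-- The type B does not occur. -/
theorem no_B (M : Model) {u : G} (hu : c.IsX u) (hs : c.Std u rB) : False := by
  obtain ⟨g, v, h1, h2, hv, ht⟩ := c.exists_partner M hu
  have hA := Std.act c hs
  have huu : u ∈ Kg c.z u := (c.self_mem_Kg_iff M hu hs).2 M.k.B_u
  have hzv : c.z ∈ Kg c.z v := by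
    have := c.Kg_back h1 h2 huu
    rwa [← h1, show g⁻¹ * (g * c.z * g⁻¹) * g = c.z by group] at this
  rcases ht with h | h | h | h | h | h | h
  · exact M.k.A_z ((c.z_mem_Kg_iff M hv.1 (Std.act c h)).1 hzv)
  · exact M.k.B_z ((c.z_mem_Kg_iff M hv.1 (Std.act c h)).1 hzv)
  · exact c.no_D M hv h
  · refine M.k.B_z ((c.z_mem_Kg_iff M hu.1 hA).1 ?_)
    have hvv : v ∈ Kg c.z v := (c.self_mem_Kg_iff M hv h).2 M.k.F_u
    have := c.Kg_forward h1 h2 hvv
    rwa [← h2, show g * (g⁻¹ * c.z * g) * g⁻¹ = c.z by group] at this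
  · exact c.no_T M hv h
  · exact M.k.R_z ((c.z_mem_Kg_iff M hv.1 h.2).1 hzv)
  · exact M.k.P_z ((c.z_mem_Kg_iff M hv.1 h.2).1 hzv)

end H6.O8.Ctx
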