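import Cfsg.Agent.H6.O8Cover.Clique

/-!
S3144: the remaining types and the conclusion.
-/

set_option autoImplicit false

namespace H6.O8

open Subgroup

theorem rD_ne_one : rD ≠ 1 := fun h =>
  absurd (congrArg (fun g : GG => (g : Matrix (Fin 8) (Fin 8) (ZMod 3)) 0 0) h) (by decide +kernel)

theorem rD_ne_zM : rD ≠ zM := fun h =>
  absurd (congrArg (fun g : GG => (g : Matrix (Fin 8) (Fin 8) (ZMod 3)) 7 7) h) (by decide +kernel)

namespace Ctx

variable {G : Type*} [Group G] [Finite G] (c : Ctx G)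

theorem isX_inner {u : G} {r : GG} (hu : c.IsX u) (hs : c.Std u r) {a : GG} (ha : MConj a r) :
    ∃ x : ↥c.L, ((c.e x : ↥MM) : GG) = a ∧ c.IsX (x : G) := by
  obtain ⟨huL, hue⟩ := hs
  obtain ⟨m, hm, hmc⟩ := ha
  set n := c.e.symm ⟨m, hm⟩ with hn
  refine ⟨n⁻¹ * ⟨u, huL⟩ * n, ?_, ?_⟩
  · simp only [map_mul, map_inv, Subgroup.coe_mul, InvMemClass.coe_inv, hn,
      MulEquiv.apply_symm_apply, hue]
    rw [← hmc]; group
  · have := hu.conj c (c.L_comm (inv_mem n.2))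
    simpa [inv_inv] using this

theorem no_A (M : Model) {u : G} (hu : c.IsX u) (hs : c.Std u rA) : False := by
  obtain ⟨v0, hv0, huv0, hcomm, hw⟩ := M.k.A_tri
  obtain ⟨huL, hue⟩ := id hs
  obtain ⟨v, hve, hvX⟩ := c.isX_inner hu hs hv0
  obtain ⟨p, hpe, hpX⟩ := c.isX_inner hu hs huv0
  have hp : (p : G) = u * v := congrArg Subtype.val
    (show p = ⟨u, huL⟩ * v from c.e.injective (Subtype.ext (by simp [hpe, hue, hve])))
  have huv : Commute u (v : G) := congrArg Subtype.val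
    (show (⟨u, huL⟩ : ↥c.L) * v = v * ⟨u, huL⟩ from
      c.e.injective (Subtype.ext (by simp [hue, hve, hcomm])))
  obtain ⟨g, hg⟩ := hu.2.2
  set v' := g⁻¹ * (v : G) * g with hv'
  have hgz : g⁻¹ * u * g = c.z := by rw [← hg]; group
  have hv'X : c.IsX v' := by
    refine ⟨?_, fun e => hpX.ne_one c ?_, ?_⟩
    · have := commute_conj g⁻¹ huv
      rwa [inv_inv, hgz] at this
    · have : (v : G) = u := by rw [← hg, ← show g⁻¹ * (v : G) * g = c.z from e]; group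
      rw [hp, this, hu.sq]
    · obtain ⟨k, hk⟩ := hvX.2.2
      exact ⟨g⁻¹ * k, by rw [hv', ← hk]; group⟩
  have hA2 := Std.act c (r := v0) ⟨v.2, hve⟩
  obtain ⟨-, hop⟩ := c.opn_moved hg (c.opn3 hu.1 hvX.1 (Std.act c hs) hA2 hw)
  rcases c.open_types M hv'X hop with ⟨n, h⟩ | h
  · set w := (n : G) * v' * (n : G)⁻¹ with hwdef
    obtain ⟨hwL, hwe⟩ := id h
    have hzw : c.IsX (c.z * w) := by
      have hwX : c.IsX w := hv'X.conj c (c.L_comm n.2)
      refine ⟨(Commute.refl _).mul_right hwX.1, fun e => hwX.ne_one c ?_, ?_⟩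
      · rw [show w = c.z⁻¹ * (c.z * w) by group, e, inv_mul_cancel]
      · obtain ⟨k, hk⟩ := hpX.2.2
        have hnz : (n : G) * c.z * (n : G)⁻¹ = c.z := by
          rw [← (c.L_comm n.2).eq, mul_inv_cancel_right]
        refine ⟨(n : G) * (g⁻¹ * k), ?_⟩
        calc (n : G) * (g⁻¹ * k) * c.z * ((n : G) * (g⁻¹ * k))⁻¹
            = (n : G) * (g⁻¹ * (k * c.z * k⁻¹) * g) * (n : G)⁻¹ := by group
          _ = (n : G) * (g⁻¹ * u * g * v') * (n : G)⁻¹ := by rw [hk, hp, hv']; group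
          _ = ((n : G) * c.z * (n : G)⁻¹) * w := by rw [hgz, hwdef]; group
          _ = c.z * w := by rw [hnz]
    refine c.no_B M hzw ⟨mul_mem c.z_mem hwL, ?_⟩
    rw [show (⟨c.z * w, mul_mem c.z_mem hwL⟩ : ↥c.L) = ⟨c.z, c.z_mem⟩ * ⟨w, hwL⟩ from rfl,
      map_mul, Subgroup.coe_mul, c.e_z, hwe]
    rfl
  · obtain ⟨n, hn⟩ := c.classify M hv'X.1 hv'X.sq hv'X.ne_one hv'X.2.1
    have hX := hv'X.conj c (c.L_comm n.2)
    have hnot : (n : G) * v' * (n : G)⁻¹ ∉ c.L := fun hh => h.1 (by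
      have := mul_mem (mul_mem (inv_mem n.2) hh) n.2
      simpa [mul_assoc] using this)
    rcases hn with e | e | e | e | e | e | e
    · exact hnot e.1
    · exact hnot e.1
    · exact hnot e.1
    · exact hnot e.1
    · exact c.no_T M hX e
    · exact c.no_R M hX e
    · have hop' : Opn (Kg c.z ((n : G) * v' * (n : G)⁻¹)) := by
        obtain ⟨x, hx, y, hy, hx2, hy2, hxy⟩ := hop
        have hz : (n : G) * c.z * (n : G)⁻¹ = c.z := by
          rw [← (c.L_comm n.2).eq, mul_inv_cancel_right]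
        refine ⟨_, hz ▸ Kg_conj (n : G) hx, _, hz ▸ Kg_conj (n : G) hy, hx2.conj _, hy2.conj _,
          fun h => hxy ?_⟩
        simpa [mul_assoc] using h.conj (n : G)⁻¹
      exact c.closed M hX.1 e.2 M.k.P_closed hop'

theorem inner_is_F (M : Model) {v : G} (hv : c.IsX v) (hvL : v ∈ c.L) :
    ∃ n : ↥c.L, c.Std ((n : G) * v * (n : G)⁻¹) rF := by
  obtain ⟨n, hn⟩ := c.classify M hv.1 hv.sq hv.ne_one hv.2.1
  have hX := hv.conj c (c.L_comm n.2)
  have hL : (n : G) * v * (n : G)⁻¹ ∈ c.L := mul_mem (mul_mem n.2 hvL) (inv_mem n.2)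
  rcases hn with e | e | e | e | e | e | e
  · exact (c.no_A M hX e).elim
  · exact (c.no_B M hX e).elim
  · exact (c.no_D M hX e).elim
  · exact ⟨n, e⟩
  · exact absurd hL e.1
  · exact absurd hL e.1
  · exact absurd hL e.1

theorem mconj_of_inner (M : Model) {v : G} (hv : c.IsX v) (hvL : v ∈ c.L) :
    MConj ((c.e ⟨v, hvL⟩ : ↥MM) : GG) rF := by
  obtain ⟨n, hL, he⟩ := c.inner_is_F M hv hvL
  refine ⟨((c.e n : ↥MM) : GG), (c.e n).2, ?_⟩
  rw [← he, show (⟨(n : G) * v * (n : G)⁻¹, hL⟩ : ↥c.L) = n * ⟨v, hvL⟩ * n⁻¹ from rfl]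
  simp

theorem no_F (M : Model) {u : G} (hu : c.IsX u) (hs : c.Std u rF) : False := by
  obtain ⟨x0, hx0K, hx0, hzx0, hux0⟩ := M.k.F_wit
  obtain ⟨huL, hue⟩ := id hs
  obtain ⟨x, hxe, hxX⟩ := c.isX_inner hu hs hx0
  obtain ⟨p, hpe, hpX⟩ := c.isX_inner hu hs hzx0
  have hp : (p : G) = c.z * x := congrArg Subtype.val
    (show p = ⟨c.z, c.z_mem⟩ * x from c.e.injective (Subtype.ext (by simp [hpe, hxe, c.e_z])))
  have hA := Std.act c hs
  have hxK : (x : G) ∈ Kg c.z u := (c.mem_Kg_iff M hu.1 hA x (two_of_sq hxX.sq)).2 (hxe ▸ hx0K)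
  have hzK : c.z ∈ Kg c.z u := (c.z_mem_Kg_iff M hu.1 hA).2 M.k.F_z
  obtain ⟨g, v, h1, h2, hv, ht⟩ := c.exists_partner M hu
  have hvv : v ∈ Kg c.z v := by
    have := c.Kg_back h1 h2 hzK
    rwa [h2] at this
  have hvL := c.mem_L_of_Kg M hv.1 hvv (two_of_sq hv.sq)
  have hvF : c.Std v rF := by
    rcases ht with e | e | e | e | e | e | e
    · exact (c.no_A M hv e).elim
    · exact (c.no_B M hv e).elim
    · exact (c.no_D M hv e).elim
    · exact e
    · exact absurd hvL e.1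
    · exact absurd hvL e.1
    · exact absurd hvL e.1
  have hxK' := c.Kg_back h1 h2 hxK
  set x' := g⁻¹ * (x : G) * g with hx'
  have hx'L : x' ∈ c.L := c.mem_L_of_Kg M hv.1 hxK' (by simpa using (two_of_sq hxX.sq).conj g⁻¹)
  have hux : Commute u (x : G) := (commute_of_mem_Kg hxK).2
  have hgz : g⁻¹ * u * g = c.z := by rw [← h1]; group
  have hxne : (x : G) ≠ u := by
    intro e
    have : x0 = rF := by
      rw [← hxe, ← hue]; congr 2; exact Subtype.ext e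
    rw [this] at hux0
    obtain ⟨m, -, hm⟩ := hux0
    have hrF : rF * rF = 1 := by
      rw [← hue, ← Subgroup.coe_mul, ← map_mul,
        show (⟨u, huL⟩ : ↥c.L) * ⟨u, huL⟩ = 1 from Subtype.ext hu.sq, map_one, Subgroup.coe_one]
    rw [hrF, mul_one, mul_inv_cancel] at hm
    exact rD_ne_one hm.symm
  have hx'X : c.IsX x' := by
    refine ⟨?_, fun e => hxne ?_, ?_⟩
    · have := commute_conj g⁻¹ hux
      rwa [inv_inv, hgz] at this
    · rw [← h1, ← show g⁻¹ * (x : G) * g = c.z from e]; group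
    · obtain ⟨k, hk⟩ := hxX.2.2
      exact ⟨g⁻¹ * k, by rw [hx', ← hk]; group⟩
  set p' := g⁻¹ * (p : G) * g with hp'
  have hp'e : p' = v * x' := by rw [hp', hp, hx', ← h2]; group
  have hpne : (p : G) ≠ u := by
    intro e
    have hxu : (x : G) = c.z * u := by rw [← e, hp, ← mul_assoc, c.z_sq, one_mul]
    have hxv : x0 = zM * rF := by
      rw [← hxe, ← hue, show x = ⟨c.z, c.z_mem⟩ * ⟨u, huL⟩ from Subtype.ext hxu, map_mul,
        Subgroup.coe_mul, c.e_z]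
    rw [hxv] at hux0
    obtain ⟨m, -, hm⟩ := hux0
    have hrF : rF * (zM * rF) = zM := by
      rw [← mul_assoc, ← zM_comm, mul_assoc]
      have hrF : rF * rF = 1 := by
        rw [← hue, ← Subgroup.coe_mul, ← map_mul,
          show (⟨u, huL⟩ : ↥c.L) * ⟨u, huL⟩ = 1 from Subtype.ext hu.sq, map_one, Subgroup.coe_one]
      rw [hrF, mul_one]
    rw [hrF, ← zM_comm, mul_inv_cancel_right] at hm
    exact rD_ne_zM hm.symm
  have hp'X : c.IsX p' := by
    refine ⟨?_, fun e => hpne ?_, ?_⟩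
    · rw [hp'e]; exact hv.1.mul_right hx'X.1
    · rw [← h1, ← show g⁻¹ * (p : G) * g = c.z from e]; group
    · obtain ⟨k, hk⟩ := hpX.2.2
      exact ⟨g⁻¹ * k, by rw [hp', ← hk]; group⟩
  have hp'L : p' ∈ c.L := hp'e ▸ mul_mem hvL hx'L
  have h2' : Two x' := two_of_sq hx'X.sq
  have hK' := (c.mem_Kg_iff M hv.1 (Std.act c hvF) ⟨x', hx'L⟩ h2').1 hxK'
  have e1 := c.mconj_of_inner M hx'X hx'L
  have e2 := c.mconj_of_inner M hp'X hp'L
  obtain ⟨hvL', hve⟩ := id hvF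
  rw [show (⟨p', hp'L⟩ : ↥c.L) = ⟨v, hvL'⟩ * ⟨x', hx'L⟩ from Subtype.ext hp'e, map_mul,
    Subgroup.coe_mul, hve] at e2
  obtain ⟨q, hqe, hqX⟩ := c.isX_inner hv hvF (M.k.F_coset _ hK' e1 e2)
  have hq : (q : G) = c.z * x' := congrArg Subtype.val
    (show q = ⟨c.z, c.z_mem⟩ * ⟨x', hx'L⟩ from c.e.injective (Subtype.ext (by rw [map_mul, Subgroup.coe_mul, c.e_z, hqe])))
  have huxX : c.IsX (u * (x : G)) := by
    refine ⟨hu.1.mul_right hxX.1, fun e => hpne ?_, ?_⟩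
    · rw [hp, ← e, mul_assoc, hxX.sq, mul_one]
    · obtain ⟨k, hk⟩ := hqX.2.2
      refine ⟨g * k, ?_⟩
      calc g * k * c.z * (g * k)⁻¹ = g * (k * c.z * k⁻¹) * g⁻¹ := by group
        _ = g * (c.z * x') * g⁻¹ := by rw [hk, hq]
        _ = u * x := by rw [hx', ← h1]; group
  obtain ⟨m, hm, hmc⟩ := hux0
  set n := c.e.symm ⟨m, hm⟩ with hn
  refine c.no_D M (huxX.conj c (c.L_comm n.2)) ⟨mul_mem (mul_mem n.2 (mul_mem huL x.2)) (inv_mem n.2), ?_⟩
  rw [show (⟨(n : G) * (u * x) * (n : G)⁻¹, _⟩ : ↥c.L) = n * (⟨u, huL⟩ * x) * n⁻¹ from rfl]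
  simp [hn, hue, hxe, ← hmc]

theorem no_P (M : Model) {u : G} (hu : c.IsX u) (hs : c.IsO u rP) : False := by
  obtain ⟨q0, hq0, hq2, hq1, m, hm, hmc⟩ := M.k.P_wit
  set qe := c.e.symm ⟨q0, Kc_le_MM _ hq0⟩ with hqe
  have hqK : (qe : G) ∈ Kg c.z u := c.symm_mem_Kg c.e hu.1 hs.2 hq0
  have hq2' : Two (qe : G) := (c.two_coe c.e qe).2 (by simpa [hqe] using hq2)
  set n := c.e.symm ⟨m, hm⟩ with hn
  have hc : u * ((n⁻¹ : ↥c.L) : G) * u⁻¹ ∈ c.L := c.conj_mem hu.1 (n⁻¹).2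
  have hall : ∀ y ∈ Kc rP, Commute rP y := by
    intro y hy
    induction hy using closure_induction with
    | mem y hy => exact hy.2.1
    | one => exact Commute.one_right _
    | mul a b _ _ ha hb => exact ha.mul_right hb
    | inv a _ ha => exact ha.inv_right
  have hcq : rP * q0 = q0 * rP := (hall q0 hq0).eq
  have key : n * ⟨_, hc⟩ = qe := by
    refine c.e.injective (Subtype.ext ?_)
    rw [map_mul, Subgroup.coe_mul, hs.2 n⁻¹ hc]
    simp only [hn, hqe, map_inv, MulEquiv.apply_symm_apply, InvMemClass.coe_inv]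
    calc m * (rP * m⁻¹ * rP⁻¹) = (m * rP * m⁻¹) * rP⁻¹ := by group
      _ = q0 := by rw [hmc, hcq, mul_inv_cancel_right]
  have hx : (n : G) * u * (n : G)⁻¹ = (qe : G) * u := by
    have := congrArg Subtype.val key
    simp only [Subgroup.coe_mul, InvMemClass.coe_inv] at this
    rw [← this]; group
  have hxX : c.IsX ((qe : G) * u) := hx ▸ hu.conj c (c.L_comm n.2)
  obtain ⟨g, v, h1, h2, hv, -⟩ := c.exists_partner M hu
  set q' := g⁻¹ * (qe : G) * g with hq'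
  have hq'K := c.Kg_back h1 h2 hqK
  have hq'L : q' ∈ c.L := c.mem_L_of_Kg M hv.1 hq'K (by simpa using hq2'.conj g⁻¹)
  set x' := g⁻¹ * ((qe : G) * u) * g with hx'
  have hx'e : x' = q' * c.z := by rw [hx', hq', ← h1]; group
  have hx'L : x' ∈ c.L := hx'e ▸ mul_mem hq'L c.z_mem
  have hx'X : c.IsX x' := by
    refine ⟨c.L_comm hx'L, fun e => ?_, ?_⟩
    · rw [hx'e, mul_eq_right, hq'] at e
      have h : (qe : G) = 1 := by
        rw [show (qe : G) = g * (g⁻¹ * (qe : G) * g) * g⁻¹ by group, e]; group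
      refine hq1 ?_
      have := congrArg (fun t => ((c.e t : ↥MM) : GG)) (show qe = 1 from Subtype.ext h)
      simpa [hqe] using this
    · obtain ⟨k, hk⟩ := hxX.2.2
      exact ⟨g⁻¹ * k, by rw [hx', ← hk]; group⟩
  obtain ⟨n', hn'⟩ := c.inner_is_F M hx'X hx'L
  exact c.no_F M (hx'X.conj c (c.L_comm n'.2)) hn'

theorem no_X (M : Model) (u : G) : ¬ c.IsX u := by
  intro hu
  obtain ⟨n, hn⟩ := c.classify M hu.1 hu.sq hu.ne_one hu.2.1
  have hX := hu.conj c (c.L_comm n.2)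
  rcases hn with e | e | e | e | e | e | e
  · exact c.no_A M hX e
  · exact c.no_B M hX e
  · exact c.no_D M hX e
  · exact c.no_F M hX e
  · exact c.no_T M hX e
  · exact c.no_R M hX e
  · exact c.no_P M hX e

theorem normal_of_isolated (M : Model) (hO : Cfsg.oddCore G = ⊥) : c.L.Normal := by
  have hiso : Cfsg.IsIsolatedInvolution c.z := by
    refine ⟨c.z_order, fun g hg => ?_⟩
    by_contra hne
    exact c.no_X M _ ⟨hg, hne, g, rfl⟩
  have hz := H85.zStar hiso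
  refine ⟨fun l hl g => c.conj_mem ?_ hl⟩
  have h := hz g
  have hbot : Cfsg.pPrimeCore 2 G = ⊥ := hO
  rw [hbot, Subgroup.mem_bot] at h
  show c.z * g = g * c.z
  rw [mul_inv_eq_one, mul_inv_eq_iff_eq_mul] at h
  exact h

end Ctx

end H6.O8
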