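import Cfsg.Agent.H6.O8Cover.Inner

/-!
S3144: commuting pairs with a large common centralizer, and reflection pairs.
-/

set_option autoImplicit false

namespace H6.O8

open Subgroup

theorem Kg3_conj {G : Type*} [Group G] {p q r x : G} (g : G) (h : x ∈ Kg3 p q r) :
    g * x * g⁻¹ ∈ Kg3 (g * p * g⁻¹) (g * q * g⁻¹) (g * r * g⁻¹) := by
  have hle : (Kg3 p q r).map (MulAut.conj g).toMonoidHom ≤
      Kg3 (g * p * g⁻¹) (g * q * g⁻¹) (g * r * g⁻¹) := by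
    rw [Kg3, MonoidHom.map_closure, closure_le]
    rintro _ ⟨y, ⟨h1, h2, h3, h4⟩, rfl⟩
    exact subset_closure ⟨commute_conj g h1, commute_conj g h2, commute_conj g h3,
      by simp only [MulEquiv.coe_toMonoidHom, MulAut.conj_apply, orderOf_conj, h4]⟩
  exact hle ⟨x, h, rfl⟩

theorem Kp_le_MM (a b : GG) : Kp a b ≤ MM := (closure_le _).2 fun _ h => h.1

theorem Kt_le_Kc (a : GG) : Kt a ≤ Kc a := (closure_le _).2 fun _ h => h.1

theorem K2g_le_Kg {G : Type*} [Group G] (p q : G) : K2g p q ≤ Kg p q :=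
  (closure_le _).2 fun _ h => h.1

namespace Ctx

variable {G : Type*} [Group G] [Finite G] (c : Ctx G)

/-- Two two-elements whose product is not one. -/
def Opn (K : Subgroup G) : Prop := ∃ x ∈ K, ∃ y ∈ K, Two x ∧ Two y ∧ ¬ Two (x * y)

theorem closed (M : Model) {v : G} {a : GG} (hv : Commute c.z v) (hA : c.Act c.e v a)
    (hc : ∀ x ∈ Kc a, ∀ y ∈ Kc a, Two x → Two y → Two (x * y)) : ¬ Opn (Kg c.z v) := by
  rintro ⟨x, hx, y, hy, hx2, hy2, hxy⟩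
  obtain ⟨hxL, hxK⟩ := c.two_mem_Kg c.e M.rR_sq hv hA hx hx2
  obtain ⟨hyL, hyK⟩ := c.two_mem_Kg c.e M.rR_sq hv hA hy hy2
  have := hc _ hxK _ hyK ((c.two_coe c.e _).1 hx2) ((c.two_coe c.e _).1 hy2)
  rw [← Subgroup.coe_mul, ← map_mul] at this
  exact hxy ((c.two_coe c.e (⟨x, hxL⟩ * ⟨y, hyL⟩)).2 this)

/-- A reflection type, up to conjugation. -/
def RTyp (v : G) : Prop := v ∉ c.L ∧ ∃ a, MConj a rR ∧ c.Act c.e v a

theorem comm_conj {v : G} (hv : Commute c.z v) (n : ↥c.L) :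
    Commute c.z ((n : G) * v * (n : G)⁻¹) :=
  ((c.L_comm n.2).mul_right hv).mul_right (c.L_comm n.2).inv_right

theorem rtyp_of_conj {v : G} (hv : Commute c.z v) {n : ↥c.L}
    (h : c.IsO ((n : G) * v * (n : G)⁻¹) rR) : c.RTyp v := by
  refine ⟨fun hL => h.1 (mul_mem (mul_mem n.2 hL) (inv_mem n.2)),
    ((c.e n : ↥MM) : GG)⁻¹ * rR * ((c.e n : ↥MM) : GG), ⟨_, (c.e n).2, by group⟩, ?_⟩
  have h' := c.act_conj (c.comm_conj hv n) h.2 n⁻¹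
  simpa [mul_assoc] using h'

theorem open_types (M : Model) {v : G} (hv : c.IsX v) (ho : Opn (Kg c.z v)) :
    (∃ n : ↥c.L, c.Std ((n : G) * v * (n : G)⁻¹) rA) ∨ c.RTyp v := by
  obtain ⟨n, hn⟩ := c.classify M hv.1 hv.sq hv.ne_one hv.2.1
  have hv' : c.IsX ((n : G) * v * (n : G)⁻¹) := hv.conj c (c.L_comm n.2)
  have hz : (n : G) * c.z * (n : G)⁻¹ = c.z := by rw [← (c.L_comm n.2).eq, mul_inv_cancel_right]
  have ho' : Opn (Kg c.z ((n : G) * v * (n : G)⁻¹)) := by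
    obtain ⟨x, hx, y, hy, hx2, hy2, hxy⟩ := ho
    refine ⟨_, hz ▸ Kg_conj (n : G) hx, _, hz ▸ Kg_conj (n : G) hy, hx2.conj _, hy2.conj _,
      fun h => hxy ?_⟩
    simpa [mul_assoc] using h.conj (n : G)⁻¹
  rcases hn with h | h | h | h | h | h | h
  · exact .inl ⟨n, h⟩
  · exact (c.no_B M hv' h).elim
  · exact (c.no_D M hv' h).elim
  · exact (c.closed M hv'.1 (Std.act c h) M.k.F_closed ho').elim
  · exact (c.no_T M hv' h).elim
  · exact .inr (c.rtyp_of_conj hv.1 h)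
  · exact (c.closed M hv'.1 h.2 M.k.P_closed ho').elim

theorem symm_mem_Kg3 {u v : G} {a b k : GG} (hu : Commute c.z u) (hv : Commute c.z v)
    (hA : c.Act c.e u a) (hB : c.Act c.e v b) (hk : k ∈ Kp a b) :
    ((c.e.symm ⟨k, Kp_le_MM a b hk⟩ : ↥c.L) : G) ∈ Kg3 c.z u v := by
  have hle : Kp a b ≤
      ((Kg3 c.z u v).comap (c.L.subtype.comp c.e.symm.toMonoidHom)).map MM.subtype := by
    refine (closure_le _).2 ?_
    rintro x ⟨hx, hax, hbx, hox⟩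
    refine ⟨⟨x, hx⟩, subset_closure ⟨c.L_comm (SetLike.coe_mem _),
      c.commute_of_act c.e hu hA (by simpa using hax),
      c.commute_of_act c.e hv hB (by simpa using hbx), ?_⟩, rfl⟩
    show Odd (orderOf ((c.e.symm ⟨x, hx⟩ : ↥c.L) : G))
    rwa [Subgroup.orderOf_coe, MulEquiv.orderOf_eq, Subgroup.orderOf_mk]
  obtain ⟨y, hy, hyk⟩ := hle hk
  obtain rfl : y = ⟨k, Kp_le_MM a b hk⟩ := Subtype.ext hyk
  exact hy

theorem opn3 {u v : G} {a b : GG} (hu : Commute c.z u) (hv : Commute c.z v)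
    (hA : c.Act c.e u a) (hB : c.Act c.e v b)
    (h : ∃ x ∈ Kp a b, ∃ y ∈ Kp a b, Two x ∧ Two y ∧ ¬ Two (x * y)) : Opn (Kg3 c.z u v) := by
  obtain ⟨x, hx, y, hy, hx2, hy2, hxy⟩ := h
  refine ⟨_, c.symm_mem_Kg3 hu hv hA hB hx, _, c.symm_mem_Kg3 hu hv hA hB hy,
    (c.two_coe c.e _).2 (by simpa using hx2), (c.two_coe c.e _).2 (by simpa using hy2), fun h => hxy ?_⟩
  rw [← Subgroup.coe_mul] at h
  simpa using (c.two_coe c.e _).1 h

/-- The pair seen from the second member. -/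
theorem opn_moved {g u v : G} (h1 : g * c.z * g⁻¹ = u) (h : Opn (Kg3 c.z u v)) :
    Opn (Kg c.z (g⁻¹ * c.z * g)) ∧ Opn (Kg c.z (g⁻¹ * v * g)) := by
  obtain ⟨x, hx, y, hy, hx2, hy2, hxy⟩ := h
  have hm : ∀ {t : G}, t ∈ Kg3 c.z u v →
      g⁻¹ * t * g ∈ Kg3 (g⁻¹ * c.z * g) c.z (g⁻¹ * v * g) := by
    intro t ht
    have := Kg3_conj g⁻¹ ht
    rwa [inv_inv, ← h1, show g⁻¹ * (g * c.z * g⁻¹) * g = c.z by group] at this
  have hne : ¬ Two (g⁻¹ * x * g * (g⁻¹ * y * g)) := fun h => hxy (by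
    simpa [mul_assoc] using h.conj g)
  have hx' : Two (g⁻¹ * x * g) := by simpa using hx2.conj g⁻¹
  have hy' : Two (g⁻¹ * y * g) := by simpa using hy2.conj g⁻¹
  refine ⟨⟨_, ?_, _, ?_, hx', hy', hne⟩, ⟨_, ?_, _, ?_, hx', hy', hne⟩⟩
  · rw [Kg_symm]; exact Kg3_le_left _ _ _ (hm hx)
  · rw [Kg_symm]; exact Kg3_le_left _ _ _ (hm hy)
  · exact Kg3_le_right _ _ _ (hm hx)
  · exact Kg3_le_right _ _ _ (hm hy)

theorem K2g_mem {v x : G} {a : GG} (M : Model) (hv : Commute c.z v) (hA : c.Act c.e v a)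
    (hx : x ∈ K2g c.z v) : ∃ hxL : x ∈ c.L, ((c.e ⟨x, hxL⟩ : ↥MM) : GG) ∈ Kt a := by
  induction hx using closure_induction with
  | mem y hy =>
    obtain ⟨hL, hk⟩ := c.two_mem_Kg c.e M.rR_sq hv hA hy.1 hy.2
    exact ⟨hL, subset_closure ⟨hk, (c.two_coe c.e _).1 hy.2⟩⟩
  | one =>
    refine ⟨one_mem _, ?_⟩
    rw [show (⟨(1 : G), one_mem _⟩ : ↥c.L) = 1 from rfl, map_one]
    exact one_mem _
  | mul p q _ _ hp hq =>
    obtain ⟨hp1, hp2⟩ := hp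
    obtain ⟨hq1, hq2⟩ := hq
    refine ⟨mul_mem hp1 hq1, ?_⟩
    rw [show (⟨p * q, mul_mem hp1 hq1⟩ : ↥c.L) = ⟨p, hp1⟩ * ⟨q, hq1⟩ from rfl, map_mul]
    exact mul_mem hp2 hq2
  | inv p _ hp =>
    obtain ⟨hp1, hp2⟩ := hp
    refine ⟨inv_mem hp1, ?_⟩
    rw [show (⟨p⁻¹, inv_mem hp1⟩ : ↥c.L) = ⟨p, hp1⟩⁻¹ from rfl, map_inv]
    exact inv_mem hp2

theorem mem_K2g {v : G} {a k : GG} (M : Model) (hv : Commute c.z v) (hA : c.Act c.e v a)
    (hk : k ∈ Kt a) :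
    ((c.e.symm ⟨k, Kc_le_MM a (Kt_le_Kc a hk)⟩ : ↥c.L) : G) ∈ K2g c.z v := by
  have hle : Kt a ≤ ((K2g c.z v).comap (c.L.subtype.comp c.e.symm.toMonoidHom)).map MM.subtype := by
    refine (closure_le _).2 ?_
    rintro x ⟨hx, hx2⟩
    refine ⟨⟨x, Kc_le_MM a hx⟩, subset_closure ⟨c.symm_mem_Kg c.e hv hA hx, ?_⟩, rfl⟩
    exact (c.two_coe c.e _).2 (by simpa using hx2)
  obtain ⟨y, hy, hyk⟩ := hle hk
  obtain rfl : y = ⟨k, Kc_le_MM a (Kt_le_Kc a hk)⟩ := Subtype.ext hyk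
  exact hy

end Ctx

end H6.O8
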