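import Cfsg.Agent.H6.O8Cover.Pair

/-!
S3144: the nine points of a reflection frame.
-/

set_option autoImplicit false

namespace H6.O8

open Subgroup

theorem Model.fr_sq (M : Model) (i : Fin 8) : fr i * fr i = 1 := by
  obtain ⟨m, -, h⟩ := M.f.fr_conj i
  have : fr i = m⁻¹ * rR * m := by rw [← h]; group
  rw [this, show m⁻¹ * rR * m * (m⁻¹ * rR * m) = m⁻¹ * (rR * rR) * m by group, M.rR_sq]; group

theorem Model.rR_mem (_M : Model) : rR ∈ WW := mem_sup_right (mem_zpowers _)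

theorem Model.rR_inv (M : Model) : rR⁻¹ = rR := inv_eq_of_mul_eq_one_right M.rR_sq

theorem Model.fr_rR_mem (M : Model) (i : Fin 8) : fr i * rR ∈ MM := by
  obtain ⟨m, hm, h⟩ := M.f.fr_conj i
  have : fr i * rR = m⁻¹ * (rR * m * rR⁻¹) := by
    rw [M.rR_inv, show fr i = m⁻¹ * rR * m by rw [← h]; group]; group
  rw [this]
  exact mul_mem (inv_mem hm) (M.cls.normal rR M.rR_mem m hm)

theorem Model.fr_mul_mem (M : Model) (i j : Fin 8) : fr i * fr j ∈ MM := by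
  have h := M.cls.normal rR M.rR_mem _ (M.fr_rR_mem j)
  rw [M.rR_inv, ← mul_assoc, mul_assoc _ rR rR, M.rR_sq, mul_one] at h
  have := mul_mem (M.fr_rR_mem i) h
  rwa [mul_assoc, ← mul_assoc rR rR, M.rR_sq, one_mul] at this

namespace Ctx

variable {G : Type*} [Group G] [Finite G] (c : Ctx G)

/-- The conjugates of `u` seen as the frame reflections. -/
def ys (M : Model) (u : G) (i : Fin 8) : G :=
  ((c.e.symm ⟨fr i * rR, M.fr_rR_mem i⟩ : ↥c.L) : G) * u

theorem ys_zero (M : Model) (u : G) : c.ys M u 0 = u := by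
  have : (⟨fr 0 * rR, M.fr_rR_mem 0⟩ : ↥MM) = 1 := Subtype.ext M.rR_sq
  rw [ys, this, map_one, OneMemClass.coe_one, one_mul]

theorem conj_u (M : Model) {u : G} (hu : c.IsX u) (hs : c.IsO u rR) {m : GG} (hm : m ∈ MM) {i : Fin 8}
    (hi : m * rR * m⁻¹ = fr i) :
    ((c.e.symm ⟨m, hm⟩ : ↥c.L) : G) * u * ((c.e.symm ⟨m, hm⟩ : ↥c.L) : G)⁻¹ = c.ys M u i := by
  set n := c.e.symm ⟨m, hm⟩ with hn
  have hc : u * ((n⁻¹ : ↥c.L) : G) * u⁻¹ ∈ c.L := c.conj_mem hu.1 (n⁻¹).2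
  have key : n * ⟨_, hc⟩ = c.e.symm ⟨fr i * rR, M.fr_rR_mem i⟩ := by
    refine c.e.injective (Subtype.ext ?_)
    rw [map_mul, Subgroup.coe_mul, MulEquiv.apply_symm_apply]
    rw [hs.2 n⁻¹ hc]
    simp only [hn, map_inv, MulEquiv.apply_symm_apply, InvMemClass.coe_inv]
    rw [← hi, M.rR_inv]; group
  have := congrArg Subtype.val key
  simp only [Subgroup.coe_mul, InvMemClass.coe_inv] at this
  rw [ys, ← this]; group

theorem ys_conj_u (M : Model) {u : G} (hu : c.IsX u) (hs : c.IsO u rR) (i : Fin 8) :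
    ∃ n : ↥c.L, c.ys M u i = (n : G) * u * (n : G)⁻¹ := by
  obtain ⟨m, hm, h⟩ := M.f.fr_conj i
  exact ⟨_, (c.conj_u M hu hs (inv_mem hm) (i := i) (by rw [← h]; group)).symm⟩

theorem ys_isX (M : Model) {u : G} (hu : c.IsX u) (hs : c.IsO u rR) (i : Fin 8) :
    c.IsX (c.ys M u i) := by
  obtain ⟨n, hn⟩ := c.ys_conj_u M hu hs i
  rw [hn]; exact hu.conj c (c.L_comm n.2)

theorem ys_not_mem (M : Model) {u : G} (hs : c.IsO u rR) (i : Fin 8) : c.ys M u i ∉ c.L := fun h =>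
  hs.1 ((Subgroup.mul_mem_cancel_left c.L (SetLike.coe_mem _)).1 h)

theorem ys_act (M : Model) {u : G} (hu : c.IsX u) (hs : c.IsO u rR) (i : Fin 8) :
    c.Act c.e (c.ys M u i) (fr i) := by
  obtain ⟨m, hm, h⟩ := M.f.fr_conj i
  have hi : m⁻¹ * rR * m⁻¹⁻¹ = fr i := by rw [← h]; group
  rw [← c.conj_u M hu hs (inv_mem hm) hi]
  have := c.act_conj hu.1 hs.2 (c.e.symm ⟨m⁻¹, inv_mem hm⟩)
  simpa only [MulEquiv.apply_symm_apply, hi] using this

theorem ys_mul (M : Model) {u : G} (hu : c.IsX u) (hs : c.IsO u rR) (i j : Fin 8) :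
    c.ys M u i * c.ys M u j =
      ((c.e.symm ⟨fr i * fr j, M.fr_mul_mem i j⟩ : ↥c.L) : G) := by
  set li := c.e.symm ⟨fr i * rR, M.fr_rR_mem i⟩ with hli
  set lj := c.e.symm ⟨fr j * rR, M.fr_rR_mem j⟩ with hlj
  have hc := c.conj_mem hu.1 lj.2
  have key : li * ⟨_, hc⟩ = c.e.symm ⟨fr i * fr j, M.fr_mul_mem i j⟩ := by
    refine c.e.injective (Subtype.ext ?_)
    rw [map_mul, Subgroup.coe_mul, MulEquiv.apply_symm_apply, hs.2 lj hc]
    simp only [hli, hlj, MulEquiv.apply_symm_apply, M.rR_inv]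
    calc fr i * rR * (rR * (fr j * rR) * rR) = fr i * (rR * rR) * fr j * (rR * rR) := by group
      _ = fr i * fr j := by simp [M.rR_sq]
  have := congrArg Subtype.val key
  simp only [Subgroup.coe_mul] at this
  rw [← this]
  show (li : G) * u * ((lj : G) * u) = _
  rw [show u⁻¹ = u from inv_eq_of_mul_eq_one_right hu.sq]
  group

/-- A tuple which multiplies like the frame. -/
structure Good (v : Fin 8 → G) : Prop where
  comm : ∀ i, Commute c.z (v i)
  act : ∀ i, c.Act c.e (v i) (fr i)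
  prod : ∀ i j, ∃ h : v i * v j ∈ c.L, ((c.e ⟨_, h⟩ : ↥MM) : GG) = fr i * fr j

theorem ys_good (M : Model) {u : G} (hu : c.IsX u) (hs : c.IsO u rR) : c.Good (c.ys M u) := by
  refine ⟨fun i => (c.ys_isX M hu hs i).1, c.ys_act M hu hs, fun i j => ?_⟩
  have h := c.ys_mul M hu hs i j
  refine ⟨h ▸ SetLike.coe_mem _, ?_⟩
  have : ∀ hh, (⟨c.ys M u i * c.ys M u j, hh⟩ : ↥c.L) =
      c.e.symm ⟨fr i * fr j, M.fr_mul_mem i j⟩ := fun _ => Subtype.ext h
  rw [this, MulEquiv.apply_symm_apply]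

theorem ys_perm (M : Model) {u : G} (hu : c.IsX u) (hs : c.IsO u rR) {m : GG} (hm : m ∈ MM)
    {σ : Equiv.Perm (Fin 8)} (h : ∀ i, m * fr i * m⁻¹ = fr (σ i)) (i : Fin 8) :
    ((c.e.symm ⟨m, hm⟩ : ↥c.L) : G) * c.ys M u i * ((c.e.symm ⟨m, hm⟩ : ↥c.L) : G)⁻¹ =
      c.ys M u (σ i) := by
  set n := c.e.symm ⟨m, hm⟩ with hn
  have h0 := c.conj_u M hu hs hm (i := σ 0) (h 0)
  have hi : c.ys M u i = ((c.e.symm ⟨fr i * fr 0, M.fr_mul_mem i 0⟩ : ↥c.L) : G) * u := by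
    have := c.ys_mul M hu hs i 0
    rw [c.ys_zero] at this
    rw [← this, mul_assoc, hu.sq, mul_one]
  have hj : c.ys M u (σ i) =
      ((c.e.symm ⟨fr (σ i) * fr (σ 0), M.fr_mul_mem _ _⟩ : ↥c.L) : G) * c.ys M u (σ 0) := by
    rw [← c.ys_mul M hu hs, mul_assoc, (c.ys_isX M hu hs _).sq, mul_one]
  have key : n * c.e.symm ⟨fr i * fr 0, M.fr_mul_mem i 0⟩ * n⁻¹ =
      c.e.symm ⟨fr (σ i) * fr (σ 0), M.fr_mul_mem _ _⟩ := by
    refine c.e.injective (Subtype.ext ?_)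
    simp only [hn, map_mul, map_inv, MulEquiv.apply_symm_apply, Subgroup.coe_mul,
      InvMemClass.coe_inv]
    rw [← h i, ← h 0]; group
  rw [hi, hj, ← h0, ← key, Subgroup.coe_mul, Subgroup.coe_mul, InvMemClass.coe_inv, ← hn]
  group

/-- The reflection pair seen from one member. -/
theorem pair_R (M : Model) {u g : G} (hu : c.IsX u) (hs : c.IsO u rR) (hg : g * c.z * g⁻¹ = u)
    (i : Fin 8) (hi : i ≠ 0) :
    c.IsX (g⁻¹ * c.ys M u i * g) ∧ c.RTyp (g⁻¹ * c.z * g) ∧ c.RTyp (g⁻¹ * c.ys M u i * g) ∧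
      g⁻¹ * c.z * g * c.z * (g⁻¹ * c.ys M u i * g) ∈ K2g c.z (g⁻¹ * c.z * g) := by
  set y := c.ys M u i with hy
  have hyX := c.ys_isX M hu hs i
  have hyA := c.ys_act M hu hs i
  obtain ⟨hconj, hq, hw⟩ := M.k.R_pair i hi
  have hfr := c.ys_mul M hu hs 0 i
  rw [c.ys_zero] at hfr
  have hzuy : c.z * u * y ∈ K2g c.z u := by
    have hqL := c.mem_K2g M hu.1 hs.2 hq
    have e : c.z * u * y = ((c.e.symm ⟨zM * rR * fr i, Kc_le_MM _ (Kt_le_Kc _ hq)⟩ : ↥c.L) : G) := by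
      rw [mul_assoc, hfr, show c.z = ((⟨c.z, c.z_mem⟩ : ↥c.L) : G) from rfl, ← Subgroup.coe_mul]
      refine congrArg Subtype.val (c.e.injective (Subtype.ext ?_))
      simp only [map_mul, MulEquiv.apply_symm_apply, Subgroup.coe_mul, c.e_z]
      exact (mul_assoc _ _ _).symm
    rw [e]; exact hqL
  set u' := g⁻¹ * c.z * g with hu'
  set y' := g⁻¹ * y * g with hy'
  have hgz : g⁻¹ * u * g = c.z := by rw [← hg]; group
  have huy : Commute u y := by
    have a := M.f.fr_comm 0 i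
    have h2 := c.ys_mul M hu hs i 0
    rw [c.ys_zero] at h2
    show u * y = y * u
    rw [hy, hfr, h2]
    simp only [a]
  have hu'X : c.IsX u' := by
    refine ⟨?_, fun e => hu.2.1 ?_, g⁻¹, by simp [hu']⟩
    · have := commute_conj g⁻¹ hu.1.symm
      rwa [inv_inv, hgz] at this
    · rw [← hg]
      have e' : g⁻¹ * c.z * g = c.z := e
      calc g * c.z * g⁻¹ = g * (g⁻¹ * c.z * g) * g⁻¹ := by rw [e']
        _ = c.z := by group
  have hy'X : c.IsX y' := by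
    refine ⟨?_, fun e => ?_, ?_⟩
    · have := commute_conj g⁻¹ huy
      rwa [inv_inv, hgz] at this
    · have hyu : y = u := by
        rw [← hg, ← show g⁻¹ * y * g = c.z from e]; group
      have h' : u * u = ((c.e.symm ⟨fr 0 * fr i, M.fr_mul_mem 0 i⟩ : ↥c.L) : G) := by
        rw [← hfr, ← hy, hyu]
      rw [hu.sq] at h'
      have h'' : (1 : ↥c.L) = c.e.symm ⟨fr 0 * fr i, M.fr_mul_mem 0 i⟩ := Subtype.ext h'
      have := congrArg (fun t => ((c.e t : ↥MM) : GG)) h''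
      simp only [map_one, MulEquiv.apply_symm_apply, OneMemClass.coe_one] at this
      exact (M.f.fr_ne i 0 hi).1 (mul_left_cancel (this.symm.trans (M.fr_sq 0).symm))
    · obtain ⟨k, hk⟩ := hyX.2.2
      exact ⟨g⁻¹ * k, by rw [hy', hy, ← hk]; group⟩
  have hmem : u' * c.z * y' ∈ K2g c.z u' := by
    have := K2g_conj g⁻¹ hzuy
    rw [inv_inv, hgz] at this
    rw [K2g_symm, show u' * c.z * y' = g⁻¹ * (c.z * u * y) * g by rw [hu', hy', ← hg]; group]
    exact this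
  obtain ⟨hop1, hop2⟩ := c.opn_moved hg (c.opn3 hu.1 hyX.1 hs.2 hyA hw)
  obtain ⟨a, -, hA'⟩ := c.exists_act hu'X.1
  obtain ⟨hmL, -⟩ := c.K2g_mem M hu'X.1 hA' hmem
  have hiff : u' ∈ c.L → False := by
    intro hL
    rcases c.open_types M hu'X hop1 with ⟨n, h⟩ | h
    · refine hs.1 ?_
      set w := (n : G) * u' * (n : G)⁻¹ with hw'
      have hwX : c.IsX w := hu'X.conj c (c.L_comm n.2)
      obtain ⟨hwL, hwe⟩ := id h
      have hzw : c.z * w ∈ Kg c.z w := by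
        refine (c.mem_Kg_iff M hwX.1 (Std.act c h) (⟨c.z, c.z_mem⟩ * ⟨w, hwL⟩) ?_).2 ?_
        · refine two_of_sq ?_
          show c.z * w * (c.z * w) = 1
          rw [hwX.1.symm.mul_mul_mul_comm, c.z_sq, hwX.sq, one_mul]
        · rw [map_mul, Subgroup.coe_mul, c.e_z, hwe]; exact M.k.A_zu
      have hn : ((n : G)⁻¹) * c.z * (n : G) = c.z := by
        rw [mul_assoc, (c.L_comm n.2).eq, inv_mul_cancel_left]
      have h' := Kg_conj (n : G)⁻¹ hzw
      rw [inv_inv, hn, show (n : G)⁻¹ * w * n = u' by rw [hw']; group] at h'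
      rw [show (n : G)⁻¹ * (c.z * w) * n = ((n : G)⁻¹ * c.z * n) * ((n : G)⁻¹ * w * n) by group, hn,
        show (n : G)⁻¹ * w * n = u' by rw [hw']; group] at h'
      have h3 := c.Kg_forward hg rfl h'
      rw [show g * (c.z * u') * g⁻¹ = (g * c.z * g⁻¹) * c.z by rw [hu']; group, hg] at h3
      have h4 := c.mem_L_of_Kg M hu.1 h3 (two_of_sq (by
        rw [hu.1.mul_mul_mul_comm, c.z_sq, hu.sq, one_mul]))
      exact (Subgroup.mul_mem_cancel_right c.L c.z_mem).1 h4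
    · exact h.1 hL
  refine ⟨hy'X, ?_, ?_, hmem⟩
  · rcases c.open_types M hu'X hop1 with ⟨n, h⟩ | h
    · refine (hiff ?_).elim
      obtain ⟨hL, -⟩ := h
      have := mul_mem (mul_mem (inv_mem n.2) hL) n.2
      simpa [mul_assoc] using this
    · exact h
  · rcases c.open_types M hy'X hop2 with ⟨n, h⟩ | h
    · refine (hiff ?_).elim
      obtain ⟨hL, -⟩ := h
      have h' : y' ∈ c.L := by
        have := mul_mem (mul_mem (inv_mem n.2) hL) n.2
        simpa [mul_assoc] using this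
      exact (Subgroup.mul_mem_cancel_right c.L c.z_mem).1 ((Subgroup.mul_mem_cancel_right c.L h').1 hmL)
    · exact h

end Ctx

end H6.O8
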