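import Cfsg.Agent.H6.O8Cover.Facts
import Cfsg.Agent.H69.Standard
import Cfsg.Agent.H80.CISylow
import Cfsg.Agent.H85.BrauerSuzuki

/-!
S3144: the centralizer of the central involution and the subgroups generated by the elements of odd
order in the centralizers of pairs of commuting conjugates.
-/

set_option autoImplicit false

namespace H6.O8

open Subgroup

theorem zM_comm (x : GG) : zM * x = x * zM := by simp [zM]

theorem zM_sq : zM * zM = 1 := by simp [zM]

theorem zM_ne : zM ≠ 1 := fun h =>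
  absurd (congrArg (fun g : GG => (g : Matrix (Fin 8) (Fin 8) (ZMod 3)) 0 0) h) (by simp [zM]; decide)

section Gen

variable {G : Type*} [Group G]

/-- Generated by the elements of odd order commuting with both. -/
def Kg (p q : G) : Subgroup G := closure {x | Commute p x ∧ Commute q x ∧ Odd (orderOf x)}

/-- The same for three elements. -/
def Kg3 (p q r : G) : Subgroup G :=
  closure {x | Commute p x ∧ Commute q x ∧ Commute r x ∧ Odd (orderOf x)}

/-- Generated by the two-elements of `Kg`. -/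
def K2g (p q : G) : Subgroup G := closure {x | x ∈ Kg p q ∧ Two x}

theorem orderOf_conj (g x : G) : orderOf (g * x * g⁻¹) = orderOf x := by
  rw [← MulAut.conj_apply]; exact MulEquiv.orderOf_eq _ x

theorem commute_conj {p x : G} (g : G) (h : Commute p x) : Commute (g * p * g⁻¹) (g * x * g⁻¹) := by
  have := h.map (MulAut.conj g).toMonoidHom
  simpa [MulAut.conj_apply] using this

theorem Two.conj {x : G} (h : Two x) (g : G) : Two (g * x * g⁻¹) := by
  obtain ⟨n, hn⟩ := h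
  exact ⟨n, by rw [conj_pow, hn]; group⟩

theorem two_of_sq {x : G} (h : x * x = 1) : Two x := ⟨1, by rw [pow_one, sq, h]⟩

theorem Kg_conj {p q x : G} (g : G) (h : x ∈ Kg p q) :
    g * x * g⁻¹ ∈ Kg (g * p * g⁻¹) (g * q * g⁻¹) := by
  have hle : (Kg p q).map (MulAut.conj g).toMonoidHom ≤ Kg (g * p * g⁻¹) (g * q * g⁻¹) := by
    rw [Kg, MonoidHom.map_closure, closure_le]
    rintro _ ⟨y, ⟨h1, h2, h3⟩, rfl⟩
    exact subset_closure ⟨commute_conj g h1, commute_conj g h2,
      by simp only [MulEquiv.coe_toMonoidHom, MulAut.conj_apply, orderOf_conj, h3]⟩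
  exact hle ⟨x, h, rfl⟩

theorem Kg_symm (p q : G) : Kg p q = Kg q p := by
  unfold Kg
  congr 1
  ext x
  exact ⟨fun h => ⟨h.2.1, h.1, h.2.2⟩, fun h => ⟨h.2.1, h.1, h.2.2⟩⟩

theorem Kg3_le_left (p q r : G) : Kg3 p q r ≤ Kg p q :=
  closure_mono fun _ h => ⟨h.1, h.2.1, h.2.2.2⟩

theorem Kg3_le_right (p q r : G) : Kg3 p q r ≤ Kg q r :=
  closure_mono fun _ h => ⟨h.2.1, h.2.2.1, h.2.2.2⟩

theorem Kg3_le_outer (p q r : G) : Kg3 p q r ≤ Kg p r :=
  closure_mono fun _ h => ⟨h.1, h.2.2.1, h.2.2.2⟩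

theorem K2g_symm (p q : G) : K2g p q = K2g q p := by rw [K2g, K2g, Kg_symm]

theorem K2g_conj {p q x : G} (g : G) (h : x ∈ K2g p q) :
    g * x * g⁻¹ ∈ K2g (g * p * g⁻¹) (g * q * g⁻¹) := by
  have hle : (K2g p q).map (MulAut.conj g).toMonoidHom ≤ K2g (g * p * g⁻¹) (g * q * g⁻¹) := by
    rw [K2g, MonoidHom.map_closure, closure_le]
    rintro _ ⟨y, ⟨h1, h2⟩, rfl⟩
    exact subset_closure ⟨Kg_conj g h1, h2.conj g⟩
  exact hle ⟨x, h, rfl⟩

theorem commute_of_mem_Kg {p q x : G} (h : x ∈ Kg p q) : Commute p x ∧ Commute q x := by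
  induction h using closure_induction with
  | mem y hy => exact ⟨hy.1, hy.2.1⟩
  | one => exact ⟨Commute.one_right _, Commute.one_right _⟩
  | mul a b _ _ ha hb => exact ⟨ha.1.mul_right hb.1, ha.2.mul_right hb.2⟩
  | inv a _ ha => exact ⟨ha.1.inv_right, ha.2.inv_right⟩

theorem eq_one_of_odd_two {x : G} (h : Odd (orderOf x)) (h2 : Two x) : x = 1 := by
  obtain ⟨n, hn⟩ := h2
  have hd := orderOf_dvd_of_pow_eq_one hn
  obtain ⟨k, -, hk⟩ := (Nat.dvd_prime_pow Nat.prime_two).1 hd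
  rcases k with - | k
  · exact orderOf_eq_one_iff.1 (by simpa using hk)
  · exact absurd h (by rw [hk, Nat.not_odd_iff_even]; exact ⟨2 ^ k, by ring⟩)

end Gen

/-- The situation. -/
structure Ctx (G : Type*) [Group G] [Finite G] where
  L : Subgroup G
  hL : Cfsg.IsStandardSubgroup L
  hR : ∀ R : Sylow 2 ↥(centralizer (L : Set G)), IsCyclic ↥(R : Subgroup ↥(centralizer (L : Set G)))
  e : ↥L ≃* ↥MM
  cf : ClassFacts
  af : IsoFacts

namespace Ctx

variable {G : Type*} [Group G] [Finite G] (c : Ctx G)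

/-- The central involution. -/
def z : G := (c.e.symm ⟨zM, c.cf.z_mem⟩ : ↥c.L)

theorem z_mem : c.z ∈ c.L := SetLike.coe_mem _

theorem e_z : (c.e ⟨c.z, c.z_mem⟩ : GG) = zM := by
  have : (⟨c.z, c.z_mem⟩ : c.L) = c.e.symm ⟨zM, c.cf.z_mem⟩ := Subtype.ext rfl
  rw [this, MulEquiv.apply_symm_apply]

theorem z_ne : c.z ≠ 1 := fun h => zM_ne (by
  have hh : (⟨c.z, c.z_mem⟩ : c.L) = 1 := Subtype.ext h
  have := c.e_z
  rw [hh, map_one] at this
  exact this.symm)

theorem z_sq : c.z * c.z = 1 := by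
  have h : (⟨c.z, c.z_mem⟩ : c.L) * ⟨c.z, c.z_mem⟩ = 1 := by
    apply c.e.injective
    rw [map_mul, map_one]
    exact Subtype.ext (by rw [Subgroup.coe_mul, c.e_z]; exact zM_sq)
  exact congrArg Subtype.val h

theorem z_order : orderOf c.z = 2 :=
  (Nat.prime_two.eq_one_or_self_of_dvd _ (orderOf_dvd_of_pow_eq_one (by rw [sq, c.z_sq]))).resolve_left
    (fun h => c.z_ne (orderOf_eq_one_iff.1 h))

theorem z_cent : c.z ∈ centralizer (c.L : Set G) := by
  refine mem_centralizer_iff.2 fun y hy => ?_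
  have h : (⟨y, hy⟩ : c.L) * ⟨c.z, c.z_mem⟩ = ⟨c.z, c.z_mem⟩ * ⟨y, hy⟩ := by
    apply c.e.injective
    simp only [map_mul]
    exact Subtype.ext (by simp only [Subgroup.coe_mul, c.e_z]; exact (zM_comm _).symm)
  exact congrArg Subtype.val h

theorem cent_L {x : G} (hx : x ∈ c.L) (hxc : x ∈ centralizer (c.L : Set G)) : x = 1 ∨ x = c.z := by
  rcases c.cf.center (c.e ⟨x, hx⟩) (c.e ⟨x, hx⟩).2 (fun y hy => by
    have hh : (⟨x, hx⟩ : c.L) * c.e.symm ⟨y, hy⟩ = c.e.symm ⟨y, hy⟩ * ⟨x, hx⟩ :=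
      Subtype.ext (mem_centralizer_iff.1 hxc _ (c.e.symm ⟨y, hy⟩).2).symm
    have := congrArg (fun t => ((c.e t : MM) : GG)) hh
    simpa using this) with h | h
  · left
    have : (⟨x, hx⟩ : c.L) = 1 := c.e.injective (Subtype.ext (by simpa using h))
    exact congrArg Subtype.val this
  · right
    have : (⟨x, hx⟩ : c.L) = ⟨c.z, c.z_mem⟩ := c.e.injective (Subtype.ext (by rw [h, c.e_z]))
    exact congrArg Subtype.val this

theorem cz_le : centralizer ({c.z} : Set G) ≤ normalizer (c.L : Set G) :=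
  H69.standard_centralizer_le c.hL c.z_order c.z_cent

theorem conj_mem {g l : G} (hg : Commute c.z g) (hl : l ∈ c.L) : g * l * g⁻¹ ∈ c.L :=
  (mem_normalizer_iff.1 (c.cz_le (mem_centralizer_singleton_iff.2 hg.eq.symm)) l).1 hl

theorem norm_comm {g : G} (hg : g ∈ normalizer (c.L : Set G)) : Commute c.z g := by
  have h1 : g * c.z * g⁻¹ ∈ c.L := (mem_normalizer_iff.1 hg c.z).1 c.z_mem
  have h2 : g * c.z * g⁻¹ ∈ centralizer (c.L : Set G) := by
    refine mem_centralizer_iff.2 fun y hy => ?_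
    have hy' : g⁻¹ * y * g ∈ c.L := by
      simpa using (mem_normalizer_iff.1 (inv_mem hg) y).1 hy
    have hc := mem_centralizer_iff.1 c.z_cent _ hy'
    calc y * (g * c.z * g⁻¹) = g * ((g⁻¹ * y * g) * c.z) * g⁻¹ := by group
      _ = g * (c.z * (g⁻¹ * y * g)) * g⁻¹ := by rw [hc]
      _ = g * c.z * g⁻¹ * y := by group
  rcases c.cent_L h1 h2 with h | h
  · exact absurd (by simpa using h) c.z_ne
  · show c.z * g = g * c.z
    conv_lhs => rw [← h]
    group

theorem L_comm {l : G} (hl : l ∈ c.L) : Commute c.z l :=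
  (mem_centralizer_iff.1 c.z_cent l hl).symm

/-- The unique involution of the centralizer. -/
theorem cent_two {x : G} (hx : x ∈ centralizer (c.L : Set G)) (h2 : x * x = 1) :
    x = 1 ∨ x = c.z := by
  by_cases h1 : x = 1
  · exact .inl h1
  refine .inr (H69.cyclicSylow_two_unique c.hR ?_ c.z_order hx c.z_cent ?_)
  · exact (Nat.prime_two.eq_one_or_self_of_dvd _ (orderOf_dvd_of_pow_eq_one (by rw [sq, h2]))).resolve_left
      (fun h => h1 (orderOf_eq_one_iff.1 h))
  · exact (mem_centralizer_iff.1 hx c.z c.z_mem).symm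

/-- The odd part of the centralizer. -/
theorem exists_odd_part : ∃ J : Subgroup G, J ≤ centralizer (c.L : Set G) ∧ Odd (Nat.card J) ∧
    ∀ x ∈ centralizer (c.L : Set G), Odd (orderOf x) → x ∈ J := by
  haveI : Fact (Nat.Prime 2) := ⟨Nat.prime_two⟩
  obtain ⟨K, hK, hmem⟩ := H80.CI.Noncentral.exists_core (H := ↥(centralizer (c.L : Set G))) (fun P hP => by
    obtain ⟨R, hR⟩ := hP.exists_le_sylow
    haveI := c.hR R
    exact isCyclic_of_injective (Subgroup.inclusion hR) (Subgroup.inclusion_injective hR))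
  refine ⟨K.map (centralizer (c.L : Set G)).subtype, map_subtype_le _, ?_, fun x hx ho => ?_⟩
  · rwa [card_map_of_injective Subtype.val_injective]
  · exact ⟨⟨x, hx⟩, hmem _ (by rwa [Subgroup.orderOf_mk]), rfl⟩

include c in
theorem ww_cases {w : GG} (hw : w ∈ WW) (hrr : rR * rR = 1) : w ∈ MM ∨ w * rR ∈ MM := by
  have hR : rR ∈ WW := mem_sup_right (mem_zpowers _)
  unfold WW at hw
  rw [sup_eq_closure] at hw
  induction hw using closure_induction_left with
  | one => exact .inl (one_mem _)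
  | mul_left x hx y _ ih =>
    rcases hx with hx | hx
    · rcases ih with h | h
      · exact .inl (mul_mem hx h)
      · exact .inr (by rw [mul_assoc]; exact mul_mem hx h)
    · obtain ⟨k, rfl⟩ := mem_zpowers_iff.1 hx
      rcases Int.even_or_odd' k with ⟨m, rfl | rfl⟩
      · rw [zpow_mul, zpow_two, hrr, one_zpow, one_mul]; exact ih
      · simp only [zpow_add, zpow_mul, zpow_two, hrr, one_zpow, zpow_one, one_mul]
        have hi : rR⁻¹ = rR := inv_eq_of_mul_eq_one_right hrr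
        rcases ih with h | h
        · right
          simpa [hi] using c.cf.normal rR hR y h
        · left
          have := c.cf.normal rR hR _ h
          rw [hi, ← mul_assoc, mul_assoc (rR * y), hrr, mul_one] at this
          exact this
  | inv_mul_cancel x hx y _ ih =>
    rcases hx with hx | hx
    · rcases ih with h | h
      · exact .inl (mul_mem (inv_mem hx) h)
      · exact .inr (by rw [mul_assoc]; exact mul_mem (inv_mem hx) h)
    · obtain ⟨k, rfl⟩ := mem_zpowers_iff.1 hx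
      rw [← zpow_neg]
      rcases Int.even_or_odd' (-k) with ⟨m, hm | hm⟩ <;> rw [hm]
      · rw [zpow_mul, zpow_two, hrr, one_zpow, one_mul]; exact ih
      · simp only [zpow_add, zpow_mul, zpow_two, hrr, one_zpow, zpow_one, one_mul]
        have hi : rR⁻¹ = rR := inv_eq_of_mul_eq_one_right hrr
        rcases ih with h | h
        · right
          simpa [hi] using c.cf.normal rR hR y h
        · left
          have := c.cf.normal rR hR _ h
          rw [hi, ← mul_assoc, mul_assoc (rR * y), hrr, mul_one] at this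
          exact this

include c in
theorem ww_sq {w : GG} (hw : w ∈ WW) (hrr : rR * rR = 1) : w * w ∈ MM := by
  rcases c.ww_cases hw hrr with h | h
  · exact mul_mem h h
  · have hR : rR ∈ WW := mem_sup_right (mem_zpowers _)
    have hc := c.cf.normal rR hR _ h
    have hi : rR⁻¹ = rR := inv_eq_of_mul_eq_one_right hrr
    rw [hi, ← mul_assoc, mul_assoc (rR * w), hrr, mul_one] at hc
    have := mul_mem h hc
    rwa [mul_assoc, ← mul_assoc rR rR, hrr, one_mul] at this

/-- `u` acts on the cover, seen through `E`, as conjugation by `a`. -/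
def Act (E : ↥c.L ≃* ↥MM) (u : G) (a : GG) : Prop :=
  ∀ (l : ↥c.L) (h : u * (l : G) * u⁻¹ ∈ c.L),
    ((E ⟨_, h⟩ : ↥MM) : GG) = a * ((E l : ↥MM) : GG) * a⁻¹

theorem exists_act {u : G} (hu : Commute c.z u) : ∃ a ∈ WW, c.Act c.e u a := by
  let α : ↥c.L ≃* ↥c.L :=
    { toFun := fun l => ⟨u * l * u⁻¹, c.conj_mem hu l.2⟩
      invFun := fun l => ⟨u⁻¹ * l * u, by simpa using c.conj_mem hu.inv_right l.2⟩
      left_inv := fun l => Subtype.ext (by simp [mul_assoc])
      right_inv := fun l => Subtype.ext (by simp [mul_assoc])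
      map_mul' := fun a b => Subtype.ext (by simp [mul_assoc]) }
  obtain ⟨w, hw, hα⟩ := c.af.aut ((c.e.symm.trans α).trans c.e)
  refine ⟨w, hw, fun l h => ?_⟩
  have := hα (c.e l)
  simpa [α] using this

/-- The decomposition of an element of odd order of the normalizer. -/
theorem odd_split (hrr : rR * rR = 1) {d : G} (hd : Commute c.z d) (ho : Odd (orderOf d)) :
    ∃ l ∈ c.L, ∃ k ∈ centralizer (c.L : Set G), d = l * k ∧ Odd (orderOf l) ∧ Odd (orderOf k) ∧
      l ^ orderOf d = 1 := by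
  obtain ⟨t, ht⟩ := ho
  set n := orderOf d with hn
  have hd2 : (d ^ (t + 1)) * (d ^ (t + 1)) = d := by
    rw [← pow_add, show t + 1 + (t + 1) = n + 1 by omega, pow_succ, pow_orderOf_eq_one, one_mul]
  obtain ⟨w, hw, hA⟩ := c.exists_act (hd.pow_right (t + 1))
  set m : ↥MM := ⟨w * w, c.ww_sq hw hrr⟩
  set l0 : G := ((c.e.symm m : ↥c.L) : G) with hl0
  have hl0L : l0 ∈ c.L := SetLike.coe_mem _
  have hk0 : l0⁻¹ * d ∈ centralizer (c.L : Set G) := by
    refine mem_centralizer_iff.2 fun y hy => ?_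
    have h1 := c.conj_mem (hd.pow_right (t + 1)) hy
    have h2 := c.conj_mem (hd.pow_right (t + 1)) h1
    have e1 := hA ⟨y, hy⟩ h1
    have e2 := hA ⟨_, h1⟩ h2
    rw [e1] at e2
    have e3 : (⟨d ^ (t + 1) * (d ^ (t + 1) * y * (d ^ (t + 1))⁻¹) * (d ^ (t + 1))⁻¹, h2⟩ : c.L) =
        c.e.symm m * ⟨y, hy⟩ * (c.e.symm m)⁻¹ := by
      apply c.e.injective
      refine Subtype.ext (e2.trans ?_)
      simp [m, mul_assoc]
    have e4 : d * y * d⁻¹ = l0 * y * l0⁻¹ := by
      have := congrArg Subtype.val e3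
      simp only [Subgroup.coe_mul, InvMemClass.coe_inv, ← hl0] at this
      rw [← this]
      nth_rewrite 1 2 [← hd2]
      group
    calc y * (l0⁻¹ * d) = l0⁻¹ * (l0 * y * l0⁻¹) * d := by group
      _ = l0⁻¹ * (d * y * d⁻¹) * d := by rw [e4]
      _ = l0⁻¹ * d * y := by group
  have hcomm : Commute l0 (l0⁻¹ * d) := mem_centralizer_iff.1 hk0 l0 hl0L
  have hprod : l0 ^ n * (l0⁻¹ * d) ^ n = 1 := by
    rw [← hcomm.mul_pow, ← mul_assoc, mul_inv_cancel, one_mul, pow_orderOf_eq_one]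
  have hmem : l0 ^ n ∈ centralizer (c.L : Set G) := by
    rw [eq_inv_of_mul_eq_one_left hprod]
    exact inv_mem (pow_mem hk0 n)
  have hodd : ∀ x : G, x ^ n = 1 → Odd (orderOf x) := fun x hx =>
    Odd.of_dvd_nat ⟨t, ht⟩ (orderOf_dvd_of_pow_eq_one hx)
  rcases c.cent_L (pow_mem hl0L n) hmem with h | h
  · rw [h, one_mul] at hprod
    exact ⟨l0, hl0L, _, hk0, by group, hodd _ h, hodd _ hprod, h⟩
  · have hz : c.z ^ n = c.z := by rw [ht, pow_succ, pow_mul, sq, c.z_sq, one_pow, one_mul]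
    have h1 : (l0 * c.z) ^ n = 1 := by
      rw [(c.L_comm hl0L).symm.mul_pow, h, hz, c.z_sq]
    have hzk : Commute c.z (l0⁻¹ * d) := mem_centralizer_iff.1 hk0 c.z c.z_mem
    have h2 : (c.z * (l0⁻¹ * d)) ^ n = 1 := by
      rw [hzk.mul_pow, hz, ← h]; exact hprod
    refine ⟨l0 * c.z, mul_mem hl0L c.z_mem, c.z * (l0⁻¹ * d), mul_mem c.z_cent hk0, ?_,
      hodd _ h1, hodd _ h2, h1⟩
    rw [mul_assoc l0, ← mul_assoc c.z, c.z_sq, one_mul, ← mul_assoc, mul_inv_cancel, one_mul]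

variable (E : ↥c.L ≃* ↥MM)

theorem Kc_le_MM (a : GG) : Kc a ≤ MM := (closure_le _).2 fun _ h => h.1

theorem commute_of_act {u : G} {a : GG} (hu : Commute c.z u) (hA : c.Act E u a) {l : ↥c.L}
    (h : Commute a ((E l : ↥MM) : GG)) : Commute u (l : G) := by
  have e1 := hA l (c.conj_mem hu l.2)
  have e2 : a * ((E l : ↥MM) : GG) * a⁻¹ = ((E l : ↥MM) : GG) := by
    rw [h.eq, mul_inv_cancel_right]
  rw [e2] at e1
  have := congrArg Subtype.val (E.injective (Subtype.ext e1))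
  exact mul_inv_eq_iff_eq_mul.1 this

theorem symm_mem_Kg {u : G} {a k : GG} (hu : Commute c.z u) (hA : c.Act E u a) (hk : k ∈ Kc a) :
    ((E.symm ⟨k, Kc_le_MM a hk⟩ : ↥c.L) : G) ∈ Kg c.z u := by
  have hle : Kc a ≤ ((Kg c.z u).comap (c.L.subtype.comp E.symm.toMonoidHom)).map MM.subtype := by
    refine (closure_le _).2 ?_
    rintro x ⟨hx, hax, hox⟩
    refine ⟨⟨x, hx⟩, subset_closure ⟨c.L_comm (SetLike.coe_mem _), ?_, ?_⟩, rfl⟩
    · exact c.commute_of_act E hu hA (by simpa using hax)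
    · show Odd (orderOf ((E.symm ⟨x, hx⟩ : ↥c.L) : G))
      rwa [Subgroup.orderOf_coe, MulEquiv.orderOf_eq, Subgroup.orderOf_mk]
  obtain ⟨y, hy, hyk⟩ := hle hk
  obtain rfl : y = ⟨k, Kc_le_MM a hk⟩ := Subtype.ext hyk
  exact hy

/-- An element of odd order centralising `z` and `u`, split along the cover. -/
theorem odd_part (hrr : rR * rR = 1) {u d : G} {a : GG} (hu : Commute c.z u) (hA : c.Act E u a)
    (hzd : Commute c.z d) (hud : Commute u d) (hod : Odd (orderOf d)) :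
    ∃ (l : ↥c.L) (k : G), k ∈ centralizer (c.L : Set G) ∧ d = l * k ∧ Odd (orderOf k) ∧
      Odd (orderOf (l : G)) ∧ Commute a ((E l : ↥MM) : GG) ∧ Commute u (l : G) := by
  obtain ⟨l, hl, k, hk, rfl, hlo, hko, hln⟩ := c.odd_split hrr hzd hod
  set n := orderOf (l * k) with hn
  have hlk : Commute l k := mem_centralizer_iff.1 hk l hl
  have hl' := c.conj_mem hu hl
  have hk' : u * k * u⁻¹ ∈ centralizer (c.L : Set G) := by
    refine mem_centralizer_iff.2 fun y hy => ?_
    have hy' : u⁻¹ * y * u ∈ c.L := by simpa using c.conj_mem hu.inv_right hy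
    have hcy := mem_centralizer_iff.1 hk _ hy'
    calc y * (u * k * u⁻¹) = u * ((u⁻¹ * y * u) * k) * u⁻¹ := by group
      _ = u * (k * (u⁻¹ * y * u)) * u⁻¹ := by rw [hcy]
      _ = u * k * u⁻¹ * y := by group
  have heq : (u * l * u⁻¹) * (u * k * u⁻¹) = l * k := by
    calc _ = u * (l * k) * u⁻¹ := by group
      _ = _ := by rw [hud.eq]; group
  have hq : l⁻¹ * (u * l * u⁻¹) = k * (u * k * u⁻¹)⁻¹ := by
    rw [eq_mul_inv_iff_mul_eq, mul_assoc, heq]; group
  have hq1 : (l⁻¹ * (u * l * u⁻¹)) ^ n = 1 := by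
    have hc : Commute l⁻¹ (u * l * u⁻¹) := by
      have : Commute (u * (l * k) * u⁻¹) (u * l * u⁻¹) :=
        commute_conj u (Commute.mul_left (Commute.refl l) hlk.symm)
      rw [hud.eq, mul_inv_cancel_right] at this
      have hkl : Commute k (u * l * u⁻¹) := (mem_centralizer_iff.1 hk _ hl').symm
      have h' := this.mul_left hkl.inv_left
      rw [mul_inv_cancel_right] at h'
      exact h'.inv_left
    rw [hc.mul_pow, inv_pow, conj_pow, hln]; group
  have hfix : u * l * u⁻¹ = l := by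
    rcases c.cent_L (mul_mem (inv_mem hl) hl') (hq ▸ mul_mem hk (inv_mem hk')) with h | h
    · exact (inv_mul_eq_one.1 h).symm
    · obtain ⟨t, ht⟩ := hod
      rw [h, ht, pow_succ, pow_mul, sq, c.z_sq, one_pow, one_mul] at hq1
      exact absurd hq1 c.z_ne
  refine ⟨⟨l, hl⟩, k, hk, rfl, hko, hlo, ?_, mul_inv_eq_iff_eq_mul.1 hfix⟩
  have e1 := hA ⟨l, hl⟩ hl'
  rw [show (⟨u * l * u⁻¹, hl'⟩ : ↥c.L) = ⟨l, hl⟩ from Subtype.ext hfix] at e1
  exact (eq_mul_inv_iff_mul_eq.1 e1).symm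

theorem two_mem_Kg (hrr : rR * rR = 1) {u x : G} {a : GG} (hu : Commute c.z u) (hA : c.Act E u a)
    (hx : x ∈ Kg c.z u) (h2 : Two x) :
    ∃ hxL : x ∈ c.L, ((E ⟨x, hxL⟩ : ↥MM) : GG) ∈ Kc a := by
  obtain ⟨J, hJ, hJodd, hJmem⟩ := c.exists_odd_part
  let P : Subgroup G :=
    { carrier := {y | ∃ l : ↥c.L, ∃ k ∈ J, ((E l : ↥MM) : GG) ∈ Kc a ∧ y = l * k}
      one_mem' := ⟨1, 1, one_mem _, by simp, by simp⟩
      mul_mem' := by
        rintro _ _ ⟨l, k, hk, hl, rfl⟩ ⟨l', k', hk', hl', rfl⟩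
        refine ⟨l * l', k * k', mul_mem hk hk', by simpa using mul_mem hl hl', ?_⟩
        have := mem_centralizer_iff.1 (hJ hk) _ l'.2
        rw [Subgroup.coe_mul, mul_assoc, ← mul_assoc k, ← this]
        group
      inv_mem' := by
        rintro _ ⟨l, k, hk, hl, rfl⟩
        refine ⟨l⁻¹, k⁻¹, inv_mem hk, by simpa using inv_mem hl, ?_⟩
        have := mem_centralizer_iff.1 (inv_mem (hJ hk)) _ (inv_mem l.2)
        rw [mul_inv_rev, InvMemClass.coe_inv, this] }
  have hle : Kg c.z u ≤ P := by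
    refine (closure_le _).2 ?_
    rintro d ⟨hzd, hud, hod⟩
    obtain ⟨l, k, hk, hd, hko, hlo, hal, -⟩ := c.odd_part E hrr hu hA hzd hud hod
    refine ⟨l, k, hJmem k hk hko, subset_closure ⟨SetLike.coe_mem _, hal, ?_⟩, hd⟩
    rwa [Subgroup.orderOf_coe, MulEquiv.orderOf_eq, ← Subgroup.orderOf_coe]
  obtain ⟨l, k, hk, hl, rfl⟩ := hle hx
  obtain ⟨n, hn⟩ := h2
  have hlk : Commute (l : G) k := mem_centralizer_iff.1 (hJ hk) _ l.2
  rw [hlk.mul_pow] at hn
  have hk1 : k ^ 2 ^ n ∈ c.L := by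
    rw [eq_inv_of_mul_eq_one_right hn]
    exact inv_mem (pow_mem l.2 _)
  have hJo : ∀ y ∈ J, Odd (orderOf y) := fun y hy => by
    have hd := orderOf_dvd_natCard (⟨y, hy⟩ : ↥J)
    rw [Subgroup.orderOf_mk] at hd
    exact Odd.of_dvd_nat hJodd hd
  have hk2 : k ^ 2 ^ n = 1 := by
    rcases c.cent_L hk1 (hJ (pow_mem hk _)) with h | h
    · exact h
    · have := hJo _ (pow_mem hk (2 ^ n))
      rw [h, c.z_order] at this
      exact absurd this (by decide)
  have hk3 : k = 1 := eq_one_of_odd_two (hJo k hk) ⟨n, hk2⟩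
  subst hk3
  refine ⟨by simp [l.2], ?_⟩
  simpa using hl

end Ctx

end H6.O8
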