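import Cfsg.Agent.H6.O8Cover.Setting

/-!
S3144: the types of the involutions of the centralizer of `z`, and partners.
-/

set_option autoImplicit false

namespace H6.O8

open Subgroup

/-- Everything assumed on the model. -/
structure Model : Prop where
  cls : ClassFacts
  k : KFacts
  f : FrameFacts
  trans : ∀ a : Fin 8, ∃ m ∈ MM, ∃ σ : Equiv.Perm (Fin 8), σ 0 = a ∧
    ∀ i, m * fr i * m⁻¹ = fr (σ i)
  rR_sq : rR * rR = 1

theorem neg_conj (w x : GG) : (zM * w) * x * (zM * w)⁻¹ = w * x * w⁻¹ := by simp [zM]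

theorem conj_zM (m x : GG) : m * (zM * x) * m⁻¹ = zM * (m * x * m⁻¹) := by simp [zM]

theorem fr_zero_ne_one (M : Model) : fr 1 ≠ fr 0 := (M.f.fr_ne 1 0 (by decide)).1

/-- An element of the Weyl group centralising the cover lies in it. -/
theorem Model.mem_of_centralizes (M : Model) {w : GG} (hw : w ∈ WW)
    (hc : ∀ x ∈ MM, w * x = x * w) (hsq : w * w ∈ MM) : w ∈ MM := by
  by_contra hn
  have hww : w * w = 1 ∨ w * w = zM := M.cls.center _ hsq fun y hy => by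
    rw [mul_assoc, hc y hy, ← mul_assoc, hc y hy, mul_assoc]
  have hfix : ∀ {m b : GG}, m ∈ MM → m * w * m⁻¹ = b → b = w := by
    intro m b hm h
    rw [← h, ← hc m hm, mul_inv_cancel_right]
  have hR : ¬ ∀ x ∈ MM, rR * x = x * rR := by
    intro h
    obtain ⟨⟨m, hm, hmc⟩, -⟩ := M.k.R_pair 1 (by decide)
    refine fr_zero_ne_one M ?_
    have : fr 1 = m⁻¹ * rR * m := by rw [← hmc]; group
    rw [this, mul_assoc, h m hm, inv_mul_cancel_left]; rfl
  have hP : ¬ ∀ x ∈ MM, rP * x = x * rP := by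
    intro h
    obtain ⟨q, -, -, hq1, m, hm, hmc⟩ := M.k.P_wit
    refine hq1 ?_
    rw [← h m hm, mul_inv_cancel_right] at hmc
    exact mul_left_cancel (hmc.symm.trans (mul_one _).symm)
  have hneg : ∀ {b : GG}, zM * b = w → ∀ x ∈ MM, b * x = x * b := by
    intro b h x hx
    have := hc x hx
    rw [← h, mul_assoc, ← mul_assoc x, ← zM_comm x, mul_assoc zM x] at this
    exact mul_left_cancel this
  rcases M.cls.outer w hw hn hww with ⟨m, hm, h⟩ | ⟨m, hm, h⟩ | ⟨m, hm, h⟩ | ⟨m, hm, h⟩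
  · exact hR fun x hx => (hfix hm h).symm ▸ hc x hx
  · exact hR (hneg (hfix hm h))
  · exact hP fun x hx => (hfix hm h).symm ▸ hc x hx
  · exact hP (hneg (hfix hm h))

namespace Ctx

variable {G : Type*} [Group G] [Finite G] (c : Ctx G)

theorem E_z (E : ↥c.L ≃* ↥MM) : ((E ⟨c.z, c.z_mem⟩ : ↥MM) : GG) = zM := by
  have hne : E ⟨c.z, c.z_mem⟩ ≠ 1 := by
    rw [Ne, EmbeddingLike.map_eq_one_iff]
    exact fun h => c.z_ne (congrArg Subtype.val h)
  refine (c.cf.center _ (E ⟨c.z, c.z_mem⟩).2 fun y hy => ?_).resolve_left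
    (fun h => hne (Subtype.ext h))
  have hh : (⟨c.z, c.z_mem⟩ : ↥c.L) * E.symm ⟨y, hy⟩ = E.symm ⟨y, hy⟩ * ⟨c.z, c.z_mem⟩ :=
    Subtype.ext (mem_centralizer_iff.1 c.z_cent _ (E.symm ⟨y, hy⟩).2).symm
  have := congrArg (fun t => ((E t : MM) : GG)) hh
  simpa using this

theorem act_neg {E : ↥c.L ≃* ↥MM} {u : G} {a : GG} (h : c.Act E u (zM * a)) : c.Act E u a :=
  fun l hl => (h l hl).trans (neg_conj a _)

theorem act_self (E : ↥c.L ≃* ↥MM) {u : G} (hu : u ∈ c.L) :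
    c.Act E u ((E ⟨u, hu⟩ : ↥MM) : GG) := by
  intro l h
  have : (⟨u * l * u⁻¹, h⟩ : ↥c.L) = ⟨u, hu⟩ * l * ⟨u, hu⟩⁻¹ := rfl
  rw [this]
  simp

theorem act_conj {E : ↥c.L ≃* ↥MM} {u : G} {a : GG} (hu : Commute c.z u) (h : c.Act E u a)
    (n : ↥c.L) : c.Act E ((n : G) * u * (n : G)⁻¹)
      (((E n : ↥MM) : GG) * a * ((E n : ↥MM) : GG)⁻¹) := by
  intro l hl
  have h1 := c.conj_mem hu (n⁻¹ * l * n).2
  have e1 := h (n⁻¹ * l * n) h1
  have : (⟨_, hl⟩ : ↥c.L) = n * ⟨_, h1⟩ * n⁻¹ := Subtype.ext (by simp [mul_assoc])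
  rw [this, map_mul, map_mul, Subgroup.coe_mul, Subgroup.coe_mul, e1]
  simp [mul_assoc]

/-- A conjugate of `z` other than `z` in its centralizer. -/
def IsX (u : G) : Prop := Commute c.z u ∧ u ≠ c.z ∧ ∃ g, g * c.z * g⁻¹ = u

theorem IsX.sq {u : G} (h : c.IsX u) : u * u = 1 := by
  obtain ⟨g, rfl⟩ := h.2.2
  rw [show g * c.z * g⁻¹ * (g * c.z * g⁻¹) = g * (c.z * c.z) * g⁻¹ by group, c.z_sq]; group

theorem IsX.ne_one {u : G} (h : c.IsX u) : u ≠ 1 := by
  obtain ⟨g, rfl⟩ := h.2.2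
  simp [c.z_ne]

theorem IsX.conj {u n : G} (h : c.IsX u) (hn : Commute c.z n) : c.IsX (n * u * n⁻¹) := by
  have hz : n * c.z * n⁻¹ = c.z := by rw [← hn.eq, mul_inv_cancel_right]
  obtain ⟨g, hg⟩ := h.2.2
  refine ⟨?_, fun e => h.2.1 ?_, n * g, ?_⟩
  · have := commute_conj n h.1
    rwa [hz] at this
  · rw [show u = n⁻¹ * (n * u * n⁻¹) * n by group, e]
    nth_rewrite 1 [← hz]
    group
  · rw [← hg]; group

/-- An involution of the cover seen as `r`. -/
def Std (u : G) (r : GG) : Prop := ∃ h : u ∈ c.L, ((c.e ⟨u, h⟩ : ↥MM) : GG) = r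

/-- The mixed type. -/
def IsT (u : G) : Prop :=
  u ∉ c.L ∧ ∃ (E : ↥c.L ≃* ↥MM) (l : ↥c.L) (k : G), k ∈ centralizer (c.L : Set G) ∧ u = l * k ∧
    ((E l : ↥MM) : GG) = rT ∧ (l : G) * l = c.z ∧ c.Act E u rT

/-- The outer types. -/
def IsO (u : G) (a : GG) : Prop := u ∉ c.L ∧ c.Act c.e u a

theorem Std.act {u : G} {r : GG} (h : c.Std u r) : c.Act c.e u r := by
  obtain ⟨hu, rfl⟩ := h
  exact c.act_self _ hu

/-- One of the types. -/
def Typ (u : G) : Prop :=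
  c.Std u rA ∨ c.Std u rB ∨ c.Std u rD ∨ c.Std u rF ∨ c.IsT u ∨ c.IsO u rR ∨ c.IsO u rP

theorem classify (M : Model) {u : G} (hu : Commute c.z u) (h2 : u * u = 1) (h1 : u ≠ 1)
    (hz : u ≠ c.z) : ∃ n : ↥c.L, c.Typ ((n : G) * u * (n : G)⁻¹) := by
  obtain ⟨a, haW, hA⟩ := c.exists_act hu
  have haa : ∀ x ∈ MM, a * a * x * (a * a)⁻¹ = x := by
    intro x hx
    set l := c.e.symm ⟨x, hx⟩
    have h1' := c.conj_mem hu l.2
    have h2' := c.conj_mem hu h1'
    have e1 := hA l h1'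
    have e2 := hA ⟨_, h1'⟩ h2'
    have : (⟨_, h2'⟩ : ↥c.L) = l := by
      refine Subtype.ext ?_
      show u * (u * (l : G) * u⁻¹) * u⁻¹ = l
      rw [show u * (u * (l : G) * u⁻¹) * u⁻¹ = (u * u) * l * (u * u)⁻¹ by group, h2]; group
    rw [this, e1, show ((c.e l : ↥MM) : GG) = x by simp [l]] at e2
    rw [mul_inv_rev]; simpa [mul_assoc] using e2.symm
  have hsq := c.ww_sq haW M.rR_sq
  have hpm : a * a = 1 ∨ a * a = zM := c.cf.center _ hsq fun y hy => by
    have := haa y hy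
    rwa [mul_inv_eq_iff_eq_mul] at this
  by_cases haM : a ∈ MM
  · set l := c.e.symm ⟨a, haM⟩ with hl
    have hel : ((c.e l : ↥MM) : GG) = a := by simp [hl]
    have hk : (l : G)⁻¹ * u ∈ centralizer (c.L : Set G) := by
      refine mem_centralizer_iff.2 fun y hy => ?_
      have h' := c.conj_mem hu hy
      have : (⟨_, h'⟩ : ↥c.L) = l * ⟨y, hy⟩ * l⁻¹ := by
        refine c.e.injective (Subtype.ext ((hA ⟨y, hy⟩ h').trans ?_))
        simp [hel]
      have e := congrArg Subtype.val this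
      simp only [Subgroup.coe_mul, InvMemClass.coe_inv] at e
      calc y * ((l : G)⁻¹ * u) = (l : G)⁻¹ * ((l : G) * y * (l : G)⁻¹) * u := by group
        _ = (l : G)⁻¹ * (u * y * u⁻¹) * u := by rw [e]
        _ = (l : G)⁻¹ * u * y := by group
    have hlk : Commute (l : G) ((l : G)⁻¹ * u) := mem_centralizer_iff.1 hk _ l.2
    have hll : ((l : G) * l) * (((l : G)⁻¹ * u) * ((l : G)⁻¹ * u)) = 1 := by
      rw [← sq, ← sq, ← hlk.mul_pow, ← mul_assoc, mul_inv_cancel, one_mul, sq, h2]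
    rcases hpm with h | h
    · have hl2 : (l : G) * l = 1 := congrArg Subtype.val
        (show l * l = 1 from c.e.injective (Subtype.ext (by simp [hel, h])))
      rw [hl2, one_mul] at hll
      have huL : u ∈ c.L := by
        rcases c.cent_two hk hll with e | e
        · rw [show u = (l : G) * ((l : G)⁻¹ * u) by group, e, mul_one]; exact l.2
        · rw [show u = (l : G) * ((l : G)⁻¹ * u) by group, e]; exact mul_mem l.2 c.z_mem
      have hself := c.act_self c.e huL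
      set a' : GG := ((c.e ⟨u, huL⟩ : ↥MM) : GG) with ha'
      have ha2 : a' * a' = 1 := by
        rw [ha', ← Subgroup.coe_mul, ← map_mul,
          show (⟨u, huL⟩ : ↥c.L) * ⟨u, huL⟩ = 1 from Subtype.ext h2, map_one, Subgroup.coe_one]
      rcases c.cf.inner_two a' (c.e _).2 ha2 with e | e | e
      · refine absurd ?_ h1
        exact congrArg Subtype.val (show (⟨u, huL⟩ : ↥c.L) = 1 from
          c.e.injective (Subtype.ext (by simpa [ha'] using e)))
      · refine absurd ?_ hz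
        exact congrArg Subtype.val (show (⟨u, huL⟩ : ↥c.L) = ⟨c.z, c.z_mem⟩ from
          c.e.injective (Subtype.ext (by rw [c.e_z]; exact e)))
      have key : ∀ r, MConj a' r → ∃ n : ↥c.L, c.Std ((n : G) * u * (n : G)⁻¹) r := by
        rintro r ⟨m, hm, hmr⟩
        refine ⟨c.e.symm ⟨m, hm⟩, mul_mem (mul_mem (SetLike.coe_mem _) huL)
          (inv_mem (SetLike.coe_mem _)), ?_⟩
        rw [← hmr]
        have : ∀ hh, (⟨((c.e.symm ⟨m, hm⟩ : ↥c.L) : G) * u * ((c.e.symm ⟨m, hm⟩ : ↥c.L) : G)⁻¹, hh⟩ :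
            ↥c.L) = c.e.symm ⟨m, hm⟩ * ⟨u, huL⟩ * (c.e.symm ⟨m, hm⟩)⁻¹ := fun _ => rfl
        rw [this]
        simp [ha']
      rcases e with e | e | e | e
      · exact (key _ e).imp fun n h => .inl h
      · exact (key _ e).imp fun n h => .inr (.inl h)
      · exact (key _ e).imp fun n h => .inr (.inr (.inl h))
      · exact (key _ e).imp fun n h => .inr (.inr (.inr (.inl h)))
    · have hl2 : (l : G) * l = c.z := congrArg Subtype.val
        (show l * l = ⟨c.z, c.z_mem⟩ from c.e.injective (Subtype.ext (by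
          rw [c.e_z]; simp [hel, h])))
      have huL : u ∉ c.L := by
        intro huL
        have hkL : (l : G)⁻¹ * u ∈ c.L := mul_mem (inv_mem l.2) huL
        rw [hl2] at hll
        rcases c.cent_L hkL hk with e | e <;> rw [e] at hll
        · exact c.z_ne (by simpa using hll)
        · rw [c.z_sq, mul_one] at hll; exact c.z_ne hll
      obtain ⟨w, hw, hwc⟩ := c.cf.inner_four a haM h
      let β : ↥MM ≃* ↥MM :=
        { toFun := fun x => ⟨w * x * w⁻¹, c.cf.normal w hw x x.2⟩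
          invFun := fun x => ⟨w⁻¹ * x * w, by simpa using c.cf.normal w⁻¹ (inv_mem hw) x x.2⟩
          left_inv := fun x => Subtype.ext (by simp [mul_assoc])
          right_inv := fun x => Subtype.ext (by simp [mul_assoc])
          map_mul' := fun x y => Subtype.ext (by simp [mul_assoc]) }
      refine ⟨1, .inr (.inr (.inr (.inr (.inl ?_))))⟩
      simp only [OneMemClass.coe_one, one_mul, inv_one, mul_one]
      refine ⟨huL, c.e.trans β, l, _, hk, by group, ?_, hl2, ?_⟩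
      · show w * ((c.e l : ↥MM) : GG) * w⁻¹ = rT
        rw [hel, hwc]
      · intro l' h'
        show w * ((c.e ⟨_, h'⟩ : ↥MM) : GG) * w⁻¹ = rT * (w * ((c.e l' : ↥MM) : GG) * w⁻¹) * rT⁻¹
        rw [hA l' h', ← hwc]
        group
  · have huL : u ∉ c.L := by
      intro huL
      refine haM ?_
      set b : GG := ((c.e ⟨u, huL⟩ : ↥MM) : GG) with hb
      have hbM : b ∈ MM := (c.e ⟨u, huL⟩).2
      have hcen : ∀ x ∈ MM, b⁻¹ * a * x = x * (b⁻¹ * a) := by
        intro x hx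
        have e1 := hA (c.e.symm ⟨x, hx⟩) (c.conj_mem hu (SetLike.coe_mem _))
        have e2 := c.act_self c.e huL (c.e.symm ⟨x, hx⟩) (c.conj_mem hu (SetLike.coe_mem _))
        rw [e1, ← hb] at e2
        simp only [MulEquiv.apply_symm_apply] at e2
        calc b⁻¹ * a * x = b⁻¹ * (a * x * a⁻¹) * a := by group
          _ = b⁻¹ * (b * x * b⁻¹) * a := by rw [e2]
          _ = x * (b⁻¹ * a) := by group
      have hbW : b⁻¹ * a ∈ WW := mul_mem (inv_mem (mem_sup_left hbM)) haW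
      have := M.mem_of_centralizes hbW hcen (c.ww_sq hbW M.rR_sq)
      simpa using mul_mem hbM this
    have key : ∀ r, MConj a r → ∃ n : ↥c.L, c.IsO ((n : G) * u * (n : G)⁻¹) r := by
      rintro r ⟨m, hm, hmr⟩
      refine ⟨c.e.symm ⟨m, hm⟩, fun h => huL ?_, ?_⟩
      · have := mul_mem (mul_mem (inv_mem (c.e.symm ⟨m, hm⟩).2) h) (c.e.symm ⟨m, hm⟩).2
        simpa [mul_assoc] using this
      · have := c.act_conj hu hA (c.e.symm ⟨m, hm⟩)
        simpa [hmr] using this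
    rcases c.cf.outer a haW haM hpm with e | e | e | e
    · exact (key _ e).imp fun n h => .inr (.inr (.inr (.inr (.inr (.inl h)))))
    · exact (key _ e).imp fun n h => .inr (.inr (.inr (.inr (.inr (.inl ⟨h.1, c.act_neg h.2⟩)))))
    · exact (key _ e).imp fun n h => .inr (.inr (.inr (.inr (.inr (.inr h)))))
    · exact (key _ e).imp fun n h => .inr (.inr (.inr (.inr (.inr (.inr ⟨h.1, c.act_neg h.2⟩)))))

/-- A normalised partner. -/
theorem exists_partner (M : Model) {u : G} (h : c.IsX u) :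
    ∃ g v, g * c.z * g⁻¹ = u ∧ g⁻¹ * c.z * g = v ∧ c.IsX v ∧ c.Typ v := by
  obtain ⟨g, hg⟩ := h.2.2
  have hv : c.IsX (g⁻¹ * c.z * g) := by
    refine ⟨?_, fun e => h.2.1 ?_, g⁻¹, by simp⟩
    · have := commute_conj g⁻¹ h.1.symm
      rw [← hg] at this
      simpa [mul_assoc] using this
    · rw [← hg]
      nth_rewrite 1 [← e]
      group
  obtain ⟨n, hn⟩ := c.classify M hv.1 hv.sq hv.ne_one hv.2.1
  refine ⟨g * (n : G)⁻¹, (n : G) * (g⁻¹ * c.z * g) * (n : G)⁻¹, ?_, by group,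
    hv.conj c (c.L_comm n.2), hn⟩
  have := c.L_comm n.2
  rw [show g * (n : G)⁻¹ * c.z * (g * (n : G)⁻¹)⁻¹ = g * ((n : G)⁻¹ * (c.z * n)) * g⁻¹ by group,
    this.eq, inv_mul_cancel_left, hg]

theorem Kg_forward {u v g x : G} (h1 : g * c.z * g⁻¹ = u) (h2 : g⁻¹ * c.z * g = v)
    (hx : x ∈ Kg c.z v) : g * x * g⁻¹ ∈ Kg c.z u := by
  have := Kg_conj g hx
  rw [h1, ← h2, show g * (g⁻¹ * c.z * g) * g⁻¹ = c.z by group] at this
  rwa [Kg_symm]

theorem Kg_back {u v g x : G} (h1 : g * c.z * g⁻¹ = u) (h2 : g⁻¹ * c.z * g = v)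
    (hx : x ∈ Kg c.z u) : g⁻¹ * x * g ∈ Kg c.z v := by
  have := Kg_conj g⁻¹ hx
  rw [inv_inv, h2, ← h1, show g⁻¹ * (g * c.z * g⁻¹) * g = c.z by group] at this
  rwa [Kg_symm]

theorem mem_Kg_iff (M : Model) {E : ↥c.L ≃* ↥MM} {u : G} {a : GG} (hu : Commute c.z u)
    (hA : c.Act E u a) (x : ↥c.L) (h2 : Two (x : G)) :
    (x : G) ∈ Kg c.z u ↔ ((E x : ↥MM) : GG) ∈ Kc a := by
  refine ⟨fun h => ?_, fun h => ?_⟩
  · obtain ⟨hL, hk⟩ := c.two_mem_Kg E M.rR_sq hu hA h h2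
    exact hk
  · have := c.symm_mem_Kg E hu hA h
    simpa using this

theorem two_coe (E : ↥c.L ≃* ↥MM) (x : ↥c.L) : Two (x : G) ↔ Two ((E x : ↥MM) : GG) := by
  constructor <;> rintro ⟨n, hn⟩ <;> refine ⟨n, ?_⟩
  · rw [← SubmonoidClass.coe_pow, ← map_pow,
      show x ^ 2 ^ n = 1 from Subtype.ext (by simpa using hn), map_one, Subgroup.coe_one]
  · rw [← SubmonoidClass.coe_pow] at hn ⊢
    rw [show x ^ 2 ^ n = 1 from E.injective (Subtype.ext (by simpa using hn))]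
    rfl

theorem z_mem_Kg_iff (M : Model) {E : ↥c.L ≃* ↥MM} {u : G} {a : GG} (hu : Commute c.z u)
    (hA : c.Act E u a) : c.z ∈ Kg c.z u ↔ zM ∈ Kc a := by
  have := c.mem_Kg_iff M hu hA ⟨c.z, c.z_mem⟩ (two_of_sq c.z_sq)
  rwa [c.E_z] at this

theorem mem_L_of_Kg (M : Model) {u x : G} (hu : Commute c.z u) (hx : x ∈ Kg c.z u) (h2 : Two x) :
    x ∈ c.L := by
  obtain ⟨a, -, hA⟩ := c.exists_act hu
  exact (c.two_mem_Kg c.e M.rR_sq hu hA hx h2).1

theorem self_mem_Kg_iff (M : Model) {u : G} {r : GG} (hu : c.IsX u) (h : c.Std u r) :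
    u ∈ Kg c.z u ↔ r ∈ Kc r := by
  obtain ⟨hL, he⟩ := id h
  have := c.mem_Kg_iff M hu.1 (Std.act c h) ⟨u, hL⟩ (two_of_sq hu.sq)
  rwa [he] at this

end Ctx

end H6.O8
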